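import Groth.Agent.GrLib8.TorPro.Compare
import Groth.Agent.BlowAlgX.Map
import Groth.Prelude.Def_DRing2

/-!
# Uniform annihilation of `Tor` above the number of generators
-/

universe u

open CategoryTheory CategoryTheory.Limits MonoidalCategory TensorProduct

namespace Groth.Agent.GrLib8.TorPro

variable {A : Type u} [CommRing A]

theorem homologyMap_smul_id {ι : Type} {c : ComplexShape ι}
    (K : HomologicalComplex (ModuleCat.{u} A) c) (a : A) (i : ι) :
    HomologicalComplex.homologyMap (a • 𝟙 K) i = a • 𝟙 (K.homology i) := by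
  have e : (HomologicalComplex.shortComplexFunctor (ModuleCat.{u} A) c i).map (a • 𝟙 K) =
      a • 𝟙 (K.sc i) := ShortComplex.hom_ext _ _ rfl rfl rfl
  exact (congrArg (fun φ : K.sc i ⟶ K.sc i => ShortComplex.homologyMap φ) e).trans
    ((ShortComplex.homologyMap_smul (R := A) (S₁ := K.sc i) (S₂ := K.sc i) (𝟙 (K.sc i)) a).trans
      (congrArg (a • ·) (ShortComplex.homologyMap_id (K.sc i))))

/-- Multiplication by a scalar on the second variable of `Tor`. -/
theorem tor_map_smul (M : Type u) [AddCommGroup M] [Module A M] (Y : ModuleCat.{u} A) (a : A) (i : ℕ) :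
    ((Tor (ModuleCat.{u} A) i).obj (ModuleCat.of A M)).map (a • 𝟙 Y) =
      a • 𝟙 (((Tor (ModuleCat.{u} A) i).obj (ModuleCat.of A M)).obj Y) := by
  let P := ProjectiveResolution.of Y
  let G : ModuleCat.{u} A ⥤ ModuleCat.{u} A := (tensoringLeft (ModuleCat.{u} A)).obj (ModuleCat.of A M)
  show (G.leftDerived i).map (a • 𝟙 Y) = a • 𝟙 ((G.leftDerived i).obj Y)
  have e := ProjectiveResolution.isoLeftDerivedObj_hom_naturality (a • 𝟙 Y) P P
    (a • 𝟙 P.complex : P.complex ⟶ P.complex)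
    (by
      refine ModuleCat.hom_ext (LinearMap.ext fun x => ?_)
      exact map_smul (aug P).hom a x) G i
  have hG : (G.mapHomologicalComplex (ComplexShape.down ℕ)).map (a • 𝟙 P.complex) =
      a • 𝟙 ((G.mapHomologicalComplex (ComplexShape.down ℕ)).obj P.complex) :=
    HomologicalComplex.hom_ext _ _ fun j => ModuleCat.hom_ext
      ((LinearMap.lTensor_smul M a LinearMap.id).trans
        (congrArg (a • ·) (LinearMap.lTensor_id M (P.complex.X j))))
  rw [← cancel_mono (P.isoLeftDerivedObj G i).hom, e]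
  simp only [Functor.comp_map, HomologicalComplex.homologyFunctor_map, hG, homologyMap_smul_id,
    Linear.smul_comp, Category.id_comp]
  exact (Linear.comp_smul _ _ _ _ a _).trans (congrArg (a • ·) (Category.comp_id _))

theorem exists_span_range_eq (I : Ideal A) (t : ℕ) (s : Finset A) (hs : I = Ideal.span (s : Set A))
    (ht : s.card ≤ t) : ∃ a : Fin t → A, I = Ideal.span (Set.range a) := by
  refine ⟨fun i => if h : (i : ℕ) < s.card then (s.equivFin.symm ⟨i, h⟩ : A) else 0, le_antisymm ?_ ?_⟩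
  · rw [hs, Ideal.span_le]
    intro x hx
    refine Ideal.subset_span ⟨⟨s.equivFin ⟨x, hx⟩, lt_of_lt_of_le (s.equivFin ⟨x, hx⟩).2 ht⟩, ?_⟩
    simp
  · rw [Ideal.span_le]
    rintro - ⟨i, rfl⟩
    dsimp only
    split_ifs with h
    · exact hs ▸ Ideal.subset_span (s.equivFin.symm ⟨i, h⟩).2
    · exact zero_mem I

variable [IsNoetherianRing A]

/-- Uniform annihilation of `Tor` in degrees above the number of generators. -/
theorem exists_smul_tor_eq_zero (I : Ideal A) (t : ℕ) (g : Fin t → A) (hI : I = Ideal.span (Set.range g)) :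
    ∃ c : ℕ, ∀ (M : Type u) [AddCommGroup M] [Module A M] (j q : ℕ), t ≤ j → ∀ a ∈ I ^ c,
      ∀ x : DRing.Tor A (j + 1) M (A ⧸ I ^ q), a • x = 0 := by
  obtain ⟨c, hc⟩ := exists_kills_gens I t g hI
  refine ⟨c, fun M _ _ j q hj a ha x => ?_⟩
  obtain ⟨φ, hφ, hk⟩ := hc (q + c) q rfl
  have hle : I ^ q ≤ Submodule.comap (LinearMap.lsmul A A a) (I ^ (q + c)) := fun y hy => by
    show a * y ∈ I ^ (q + c)
    rw [pow_add, mul_comm a]
    exact Ideal.mul_mem_mul hy ha
  have hz := tor_map_eq_zero _ _ _ φ hφ M j (hk j hj M)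
  have e : (ModuleCat.ofHom (Submodule.mapQ (I ^ q) (I ^ (q + c)) (LinearMap.lsmul A A a) hle) : Q I q ⟶ Q I (q + c)) ≫
      tr I (show q ≤ q + c by omega) = a • 𝟙 (Q I q) := by
    apply ModuleCat.hom_ext
    refine Submodule.linearMap_qext _ (LinearMap.ext fun y => ?_)
    rfl
  have h := tor_map_smul M (Q I q) a (j + 1)
  rw [← e, Functor.map_comp, hz, comp_zero] at h
  exact (congrArg (fun f : ((Tor (ModuleCat.{u} A) (j + 1)).obj (ModuleCat.of A M)).obj (Q I q) ⟶ _ =>
    f.hom x) h).symm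

/-- Cycles are killed up to boundaries by an annihilator of homology. -/
theorem smul_mem_range_of_homology {C : ChainComplex (ModuleCat.{u} A) ℕ} (i : ℕ) (a : A)
    (h : ∀ y : C.homology (i + 1), a • y = 0) {z : C.X (i + 1)} (hz : dd C i z = 0) :
    a • z ∈ LinearMap.range (dd C (i + 1)) := by
  let y : C.cycles (i + 1) := (C.liftCycles (ModuleCat.ofHom (LinearMap.toSpanSingleton A _ z)) i (by simp)
    (ModuleCat.hom_ext (LinearMap.ext fun r => by
      show dd C i (r • z) = 0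
      rw [map_smul, hz, smul_zero]))).hom 1
  have hy : (C.iCycles (i + 1)).hom y = z :=
    (congrArg (fun f : ModuleCat.of A A ⟶ C.X (i + 1) => f.hom 1) (C.liftCycles_i _ i (by simp) _)).trans
      (one_smul A z)
  have hS : (ShortComplex.mk (C.toCycles (i + 2) (i + 1)) (C.homologyπ (i + 1))
      (C.toCycles_comp_homologyπ (i + 2) (i + 1))).Exact :=
    ShortComplex.exact_of_g_is_cokernel _ (C.homologyIsCokernel (i + 2) (i + 1) (by simp))
  obtain ⟨u, hu⟩ := ((ShortComplex.ShortExact.moduleCat_exact_iff_function_exact _).1 hS (a • y)).1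
    ((map_smul (C.homologyπ (i + 1)).hom a y).trans (h _))
  refine ⟨u, ?_⟩
  rw [← hy, ← map_smul, ← hu]
  exact (congrArg (fun f : C.X (i + 2) ⟶ C.X (i + 1) => f.hom u) (C.toCycles_i (i + 2) (i + 1))).symm

/-- Cycles in `I ^ n ⊗ P` are killed up to boundaries, uniformly in `n`. -/
theorem exists_smul_cycle_mem_range (I : Ideal A) (t : ℕ) (g : Fin t → A) (hI : I = Ideal.span (Set.range g)) :
    ∃ c : ℕ, ∀ (M : ModuleCat.{u} A) (P : ProjectiveResolution M) (i n : ℕ), t ≤ i + 1 → ∀ a ∈ I ^ c,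
      ∀ z : ↥(I ^ n) ⊗[A] P.complex.X (i + 1), (dd P.complex i).lTensor ↥(I ^ n) z = 0 →
        a • z ∈ LinearMap.range ((dd P.complex (i + 1)).lTensor ↥(I ^ n)) := by
  obtain ⟨c, hc⟩ := exists_smul_tor_eq_zero I t g hI
  refine ⟨c, fun M P i n hi a ha z hz => ?_⟩
  obtain ⟨e⟩ := CAlgOdd.TorSymm.nonempty_flip (R := A) (i + 2)
  let T : ModuleCat.{u} A ⥤ ModuleCat.{u} A := (tensoringLeft (ModuleCat.{u} A)).obj (Q I n)
  let ε : ((Tor (ModuleCat.{u} A) (i + 2)).obj (Q I n)).obj M ≅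
      ((Tor (ModuleCat.{u} A) (i + 2)).obj M).obj (Q I n) := (e.app (Q I n)).app M
  have hann : ∀ y : ((T.mapHomologicalComplex (ComplexShape.down ℕ)).obj P.complex).homology (i + 1 + 1),
      a • y = 0 := fun y => by
    obtain ⟨x, rfl⟩ := (ModuleCat.epi_iff_surjective (P.isoLeftDerivedObj T (i + 2)).hom).1 inferInstance y
    refine (map_smul (P.isoLeftDerivedObj T (i + 2)).hom.hom a x).symm.trans
      ((congrArg _ ?_).trans (map_zero _))
    apply (ModuleCat.mono_iff_injective ε.hom).1 inferInstance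
    refine (map_smul ε.hom.hom a x).trans (Eq.trans ?_ (map_zero ε.hom.hom).symm)
    exact hc M (i + 1) n hi a ha (ε.hom.hom x)
  -- the cycle in `A ⊗ P` is a boundary
  have h1 : (dd P.complex i).lTensor A ((I ^ n).subtype.rTensor _ z) = 0 := by
    rw [← LinearMap.comp_apply, LinearMap.lTensor_comp_rTensor, ← LinearMap.rTensor_comp_lTensor,
      LinearMap.comp_apply, hz, map_zero]
  obtain ⟨v, hv⟩ := ((Module.Flat.lTensor_exact A (exact_succ P i)) _).1 h1
  have h2 : (dd P.complex (i + 1)).lTensor (A ⧸ I ^ n) ((I ^ n).mkQ.rTensor _ v) = 0 := by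
    rw [← LinearMap.comp_apply, LinearMap.lTensor_comp_rTensor, ← LinearMap.rTensor_comp_lTensor,
      LinearMap.comp_apply, hv, ← LinearMap.comp_apply, ← LinearMap.rTensor_comp,
      (LinearMap.exact_subtype_mkQ (I ^ n)).linearMap_comp_eq_zero, LinearMap.rTensor_zero, LinearMap.zero_apply]
  obtain ⟨u', hu'⟩ := smul_mem_range_of_homology (C := (T.mapHomologicalComplex (ComplexShape.down ℕ)).obj P.complex)
    (i + 1) a hann (z := (I ^ n).mkQ.rTensor _ v) h2
  change (dd P.complex (i + 1 + 1)).lTensor (A ⧸ I ^ n) u' = a • (I ^ n).mkQ.rTensor _ v at hu'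
  obtain ⟨u, rfl⟩ := LinearMap.rTensor_surjective (P.complex.X (i + 1 + 1 + 1)) (I ^ n).mkQ_surjective u'
  have h3 : (I ^ n).mkQ.rTensor _ (a • v - (dd P.complex (i + 1 + 1)).lTensor A u) = 0 := by
    rw [map_sub, map_smul, ← LinearMap.comp_apply, LinearMap.rTensor_comp_lTensor,
      ← LinearMap.lTensor_comp_rTensor, LinearMap.comp_apply, hu', sub_self]
  obtain ⟨w, hw⟩ := ((rTensor_exact (P.complex.X (i + 1 + 1)) (LinearMap.exact_subtype_mkQ (I ^ n))
    (I ^ n).mkQ_surjective) _).1 h3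
  refine ⟨w, Module.Flat.rTensor_preserves_injective_linearMap (M := P.complex.X (i + 1)) (I ^ n).subtype
    Subtype.coe_injective ?_⟩
  rw [← LinearMap.comp_apply, LinearMap.rTensor_comp_lTensor, ← LinearMap.lTensor_comp_rTensor,
    LinearMap.comp_apply, hw, map_sub, map_smul, hv, map_smul, ← LinearMap.comp_apply,
    ← LinearMap.lTensor_comp, dd_comp_dd, LinearMap.lTensor_zero, LinearMap.zero_apply, sub_zero]

section BlowUpAlgebra

variable (I : Ideal A) {π : A} (hπ : π ∈ I)

/-- Multiplication by a power of `π`. -/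
noncomputable def mu (n k : ℕ) : ↥(I ^ n) →ₗ[A] ↥(I ^ (n + k)) :=
  ((LinearMap.lsmul A A (π ^ k)).domRestrict (I ^ n)).codRestrict (I ^ (n + k)) fun x => by
    show π ^ k * (x : A) ∈ I ^ (n + k)
    rw [pow_add, mul_comm (π ^ k)]
    exact Ideal.mul_mem_mul x.2 (Ideal.pow_mem_pow hπ k)

/-- The inclusion of the `n`-th stage. -/
noncomputable def psiB (n : ℕ) : ↥(I ^ n) →ₗ[A] BlowUp.affineAlgebra A I π :=
  LinearMap.codRestrict (Subalgebra.toSubmodule (BlowUp.affineAlgebra A I π))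
    ((LinearMap.mulRight A (IsLocalization.Away.invSelf (S := Localization.Away π) π ^ n)) ∘ₗ
      Algebra.linearMap A (Localization.Away π) ∘ₗ (I ^ n).subtype)
    fun x => BlowUpLib.mul_invSelf_pow_mem I ⟨π, hπ⟩ n x x.2

omit [IsNoetherianRing A] in
theorem psiB_coe (n : ℕ) (x : ↥(I ^ n)) :
    (psiB I hπ n x : Localization.Away π) =
      algebraMap A _ (x : A) * IsLocalization.Away.invSelf (S := Localization.Away π) π ^ n := rfl

omit [IsNoetherianRing A] in
theorem psiB_mu (n k : ℕ) : psiB I hπ (n + k) ∘ₗ mu I hπ n k = psiB I hπ n := by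
  refine LinearMap.ext fun x => Subtype.ext ?_
  rw [LinearMap.comp_apply, psiB_coe, psiB_coe]
  show algebraMap A _ (π ^ k * (x : A)) * _ = _
  rw [map_mul, map_pow, pow_add, show ∀ p b c d : Localization.Away π, p * b * (c * d) = b * c * (p * d) by
    intros; ring, ← mul_pow, IsLocalization.Away.mul_invSelf, one_pow, mul_one]

omit [IsNoetherianRing A] in
theorem psiB_eq_zero {n : ℕ} {x : ↥(I ^ n)} (hx : psiB I hπ n x = 0) : ∃ k, mu I hπ n k x = 0 := by
  have h := congrArg (Subtype.val : BlowUp.affineAlgebra A I π → Localization.Away π) hx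
  rw [psiB_coe, ZeroMemClass.coe_zero] at h
  have h' : algebraMap A (Localization.Away π) (x : A) = 0 := by
    have := congrArg (· * algebraMap A (Localization.Away π) π ^ n) h
    simpa [mul_assoc, ← mul_pow, mul_comm (IsLocalization.Away.invSelf π),
      IsLocalization.Away.mul_invSelf] using this
  obtain ⟨⟨_, k, rfl⟩, hk⟩ := (IsLocalization.map_eq_zero_iff (Submonoid.powers π) _ _).1 h'
  exact ⟨k, Subtype.ext hk⟩

variable {X : Type u} [AddCommGroup X] [Module A X]

omit [IsNoetherianRing A] in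
theorem exists_stage (z : BlowUp.affineAlgebra A I π ⊗[A] X) :
    ∃ (n : ℕ) (w : ↥(I ^ n) ⊗[A] X), (psiB I hπ n).rTensor X w = z := by
  induction z using TensorProduct.induction_on with
  | zero => exact ⟨0, 0, map_zero _⟩
  | tmul q x =>
    obtain ⟨n, y, hy, h⟩ := BlowAlgX.exists_eq I π hπ q.2
    refine ⟨n, ⟨y, hy⟩ ⊗ₜ x, ?_⟩
    rw [LinearMap.rTensor_tmul]
    congr 1
    refine Subtype.ext ?_
    rw [psiB_coe]
    show algebraMap A _ y * _ = _
    rw [← h, map_pow, mul_assoc, ← mul_pow, IsLocalization.Away.mul_invSelf, one_pow, mul_one]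
  | add z z' hz hz' =>
    obtain ⟨n, w, rfl⟩ := hz
    obtain ⟨m, w', rfl⟩ := hz'
    rcases le_total n m with h | h
    · obtain ⟨k, rfl⟩ := Nat.exists_eq_add_of_le h
      refine ⟨n + k, (mu I hπ n k).rTensor X w + w', ?_⟩
      rw [map_add, ← LinearMap.comp_apply, ← LinearMap.rTensor_comp, psiB_mu]
    · obtain ⟨k, rfl⟩ := Nat.exists_eq_add_of_le h
      refine ⟨m + k, w + (mu I hπ m k).rTensor X w', ?_⟩
      rw [map_add, ← LinearMap.comp_apply (f := (psiB I hπ (m + k)).rTensor X), ← LinearMap.rTensor_comp, psiB_mu]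

omit [IsNoetherianRing A] in
theorem exists_stage_zero [Module.Flat A X] {n : ℕ} (w : ↥(I ^ n) ⊗[A] X)
    (hw : (psiB I hπ n).rTensor X w = 0) : ∃ k, (mu I hπ n k).rTensor X w = 0 := by
  obtain ⟨v, rfl⟩ := ((Module.Flat.rTensor_exact X (LinearMap.exact_subtype_ker_map (psiB I hπ n))) w).1 hw
  clear hw
  suffices ∃ k, ∀ l, k ≤ l → (mu I hπ n l).rTensor X ((LinearMap.ker (psiB I hπ n)).subtype.rTensor X v) = 0 from
    ⟨this.choose, this.choose_spec _ le_rfl⟩
  induction v using TensorProduct.induction_on with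
  | zero => exact ⟨0, fun l _ => by simp⟩
  | add v v' hv hv' =>
    obtain ⟨k, hk⟩ := hv
    obtain ⟨k', hk'⟩ := hv'
    exact ⟨max k k', fun l hl => by
      rw [map_add, map_add, hk l (le_trans (le_max_left _ _) hl), hk' l (le_trans (le_max_right _ _) hl), add_zero]⟩
  | tmul y x =>
    obtain ⟨k, hk⟩ := psiB_eq_zero I hπ (show psiB I hπ n (y : ↥(I ^ n)) = 0 from y.2)
    refine ⟨k, fun l hl => ?_⟩
    obtain ⟨l', rfl⟩ := Nat.exists_eq_add_of_le hl
    rw [LinearMap.rTensor_tmul, LinearMap.rTensor_tmul,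
      show mu I hπ n (k + l') ((LinearMap.ker (psiB I hπ n)).subtype y) = 0 from Subtype.ext ?_,
      TensorProduct.zero_tmul]
    have hk' : π ^ k * ((y : ↥(I ^ n)) : A) = 0 := congrArg Subtype.val hk
    show π ^ (k + l') * ((y : ↥(I ^ n)) : A) = 0
    rw [pow_add, mul_assoc, mul_left_comm, hk', mul_zero]

end BlowUpAlgebra

/-- Uniform annihilation of `Tor` of an affine blow-up algebra. -/
theorem exists_smul_tor_blowUp (t : ℕ) (a : Fin (t + 1) → A) :
    ∃ c : ℕ, ∀ (M : Type u) [AddCommGroup M] [Module A M] (i : ℕ), t + 1 ≤ i →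
      ∀ x ∈ Ideal.span (Set.range a) ^ c,
      ∀ y : DRing.Tor A i (BlowUp.affineAlgebra A (Ideal.span (Set.range a)) (a 0)) M, x • y = 0 := by
  set I := Ideal.span (Set.range a) with hI
  have hπ : a 0 ∈ I := Ideal.subset_span ⟨0, rfl⟩
  obtain ⟨c, hc⟩ := exists_smul_cycle_mem_range I (t + 1) a hI
  refine ⟨c, fun M _ _ i hi x hx y => ?_⟩
  obtain ⟨i, rfl⟩ : ∃ j, i = j + 1 := ⟨i - 1, by omega⟩
  let P := ProjectiveResolution.of (ModuleCat.of A M)
  let B := BlowUp.affineAlgebra A I (a 0)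
  let T : ModuleCat.{u} A ⥤ ModuleCat.{u} A := (tensoringLeft (ModuleCat.{u} A)).obj (ModuleCat.of A B)
  let C := (T.mapHomologicalComplex (ComplexShape.down ℕ)).obj P.complex
  apply (ModuleCat.mono_iff_injective (P.isoLeftDerivedObj T (i + 1)).hom).1 inferInstance
  refine (map_smul (P.isoLeftDerivedObj T (i + 1)).hom.hom x y).trans (Eq.trans ?_ (map_zero _).symm)
  obtain ⟨cy, hcy⟩ := (ModuleCat.epi_iff_surjective (C.homologyπ (i + 1))).1 inferInstance
    ((P.isoLeftDerivedObj T (i + 1)).hom.hom y)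
  refine (congrArg (x • ·) hcy.symm).trans ((map_smul (C.homologyπ (i + 1)).hom x cy).symm.trans ?_)
  set z : B ⊗[A] P.complex.X (i + 1) := (C.iCycles (i + 1)).hom cy with hzdef
  have hz : (dd P.complex i).lTensor B z = 0 :=
    congrArg (fun f : C.cycles (i + 1) ⟶ C.X i => f.hom cy) (C.iCycles_d (i + 1) i)
  obtain ⟨n, w, hw⟩ := exists_stage I hπ z
  have h1 : (psiB I hπ n).rTensor _ ((dd P.complex i).lTensor _ w) = 0 := by
    rw [← LinearMap.comp_apply, LinearMap.rTensor_comp_lTensor, ← LinearMap.lTensor_comp_rTensor,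
      LinearMap.comp_apply, hw, hz]
  obtain ⟨k, hk⟩ := exists_stage_zero I hπ _ h1
  have h2 : (dd P.complex i).lTensor ↥(I ^ (n + k)) ((mu I hπ n k).rTensor _ w) = 0 := by
    rw [← LinearMap.comp_apply, LinearMap.lTensor_comp_rTensor, ← LinearMap.rTensor_comp_lTensor,
      LinearMap.comp_apply, hk]
  obtain ⟨u, hu⟩ := hc _ P i (n + k) hi x hx _ h2
  have h3 : (dd P.complex (i + 1)).lTensor B ((psiB I hπ (n + k)).rTensor _ u) = x • z := by
    rw [← LinearMap.comp_apply, LinearMap.lTensor_comp_rTensor, ← LinearMap.rTensor_comp_lTensor,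
      LinearMap.comp_apply, hu, map_smul, ← LinearMap.comp_apply, ← LinearMap.rTensor_comp, psiB_mu, hw]
  let U : C.X (i + 2) := (psiB I hπ (n + k)).rTensor _ u
  have h4 : (C.toCycles (i + 2) (i + 1)).hom U = x • cy := by
    apply (ModuleCat.mono_iff_injective (C.iCycles (i + 1))).1 inferInstance
    exact (congrArg (fun f : C.X (i + 2) ⟶ C.X (i + 1) => f.hom U) (C.toCycles_i (i + 2) (i + 1))).trans
      (h3.trans (map_smul (C.iCycles (i + 1)).hom x cy).symm)
  rw [← h4]
  exact congrArg (fun f : C.X (i + 2) ⟶ C.homology (i + 1) => f.hom U)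
    (C.toCycles_comp_homologyπ (i + 2) (i + 1))

end Groth.Agent.GrLib8.TorPro
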