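import Mathlib

/-!
# Pro-vanishing of `Tor` along powers of an ideal
-/

universe u

open CategoryTheory CategoryTheory.Limits MonoidalCategory TensorProduct

namespace Groth.Agent.GrLib8.TorPro

variable {R : Type u} [CommRing R]

/-- The `i`-th differential. -/
noncomputable abbrev dd (K : ChainComplex (ModuleCat.{u} R) ℕ) (i : ℕ) :
    K.X (i + 1) →ₗ[R] K.X i := (K.d (i + 1) i).hom

theorem dd_dd (K : ChainComplex (ModuleCat.{u} R) ℕ) (i : ℕ) (x : K.X (i + 2)) :
    dd K i (dd K (i + 1) x) = 0 :=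
  congrArg (fun f : K.X (i + 2) ⟶ K.X i => f.hom x) (K.d_comp_d (i + 2) (i + 1) i)

theorem dd_comp_dd (K : ChainComplex (ModuleCat.{u} R) ℕ) (i : ℕ) :
    dd K i ∘ₗ dd K (i + 1) = 0 :=
  LinearMap.ext (dd_dd K i)

theorem comm_apply {K K' : ChainComplex (ModuleCat.{u} R) ℕ} (φ : K ⟶ K') (i : ℕ)
    (x : K.X (i + 1)) : (φ.f i).hom (dd K i x) = dd K' i ((φ.f (i + 1)).hom x) :=
  (congrArg (fun f : K.X (i + 1) ⟶ K'.X i => f.hom x) (φ.comm (i + 1) i)).symm

theorem comm_hom {K K' : ChainComplex (ModuleCat.{u} R) ℕ} (φ : K ⟶ K') (i : ℕ) :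
    (φ.f i).hom ∘ₗ dd K i = dd K' i ∘ₗ (φ.f (i + 1)).hom :=
  LinearMap.ext (comm_apply φ i)

/-- `φ` kills the homology of `N ⊗ K` in degree `j + 1`. -/
def KillsAt (N : Type u) [AddCommGroup N] [Module R N] {K K' : ChainComplex (ModuleCat.{u} R) ℕ}
    (φ : K ⟶ K') (j : ℕ) : Prop :=
  ∀ z : N ⊗[R] K.X (j + 1), (dd K j).lTensor N z = 0 →
    (φ.f (j + 1)).hom.lTensor N z ∈ LinearMap.range ((dd K' (j + 1)).lTensor N)

/-- The augmentation of a resolution. -/
noncomputable def aug {Y : ModuleCat.{u} R} (P : ProjectiveResolution Y) : P.complex.X 0 ⟶ Y := P.π.f 0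

/-- `φ` lifts `f`. -/
def Lifts {Y Z : ModuleCat.{u} R} {P : ProjectiveResolution Y} {Q : ProjectiveResolution Z}
    (φ : P.complex ⟶ Q.complex) (f : Y ⟶ Z) : Prop :=
  φ.f 0 ≫ aug Q = aug P ≫ f

theorem exists_lifts {Y Z : ModuleCat.{u} R} (P : ProjectiveResolution Y) (Q : ProjectiveResolution Z)
    (f : Y ⟶ Z) : ∃ φ : P.complex ⟶ Q.complex, Lifts φ f := by
  refine ⟨ProjectiveResolution.lift f P Q, ?_⟩
  show _ = _
  have := congrArg (fun g => HomologicalComplex.Hom.f g 0) (ProjectiveResolution.lift_commutes f P Q)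
  simp only [HomologicalComplex.comp_f] at this
  refine this.trans ?_
  congr 1

theorem Lifts.comp {Y Z W : ModuleCat.{u} R} {P : ProjectiveResolution Y} {Q : ProjectiveResolution Z}
    {S : ProjectiveResolution W} {φ : P.complex ⟶ Q.complex} {ψ : Q.complex ⟶ S.complex}
    {f : Y ⟶ Z} {g : Z ⟶ W} (hφ : Lifts φ f) (hψ : Lifts ψ g) : Lifts (φ ≫ ψ) (f ≫ g) := by
  show _ = _
  rw [HomologicalComplex.comp_f, Category.assoc, hψ, ← Category.assoc, hφ, Category.assoc]

section Res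

variable {Y : ModuleCat.{u} R} (P : ProjectiveResolution Y)

instance projective_X (i : ℕ) : Module.Projective R (P.complex.X i) :=
  (IsProjective.iff_projective _).2 (P.projective i)

theorem flat_X (i : ℕ) : Module.Flat R (P.complex.X i) := inferInstance

theorem exact₀ : Function.Exact (dd P.complex 0) (aug P).hom :=
  (ShortComplex.ShortExact.moduleCat_exact_iff_function_exact _).1 P.exact₀

theorem exact_succ (i : ℕ) : Function.Exact (dd P.complex (i + 1)) (dd P.complex i) :=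
  (ShortComplex.ShortExact.moduleCat_exact_iff_function_exact _).1 (P.exact_succ i)

theorem surj_π : Function.Surjective (aug P).hom :=
  (ModuleCat.epi_iff_surjective (P.π.f 0)).1 inferInstance

end Res

/-- Chain maps killing cycles modulo boundaries are zero on homology. -/
theorem homologyMap_eq_zero {C C' : ChainComplex (ModuleCat.{u} R) ℕ} (ψ : C ⟶ C') (i : ℕ)
    (h : ∀ z : C.X (i + 1), dd C i z = 0 → (ψ.f (i + 1)).hom z ∈ LinearMap.range (dd C' (i + 1))) :
    HomologicalComplex.homologyMap ψ (i + 1) = 0 := by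
  rw [← cancel_epi (C.homologyπ (i + 1)), HomologicalComplex.homologyπ_naturality, comp_zero]
  refine ModuleCat.hom_ext (LinearMap.ext fun y => ?_)
  have hy : dd C i ((C.iCycles (i + 1)).hom y) = 0 :=
    congrArg (fun f : C.cycles (i + 1) ⟶ C.X i => f.hom y) (C.iCycles_d (i + 1) i)
  obtain ⟨u, hu⟩ := h _ hy
  have h1 : (HomologicalComplex.cyclesMap ψ (i + 1)).hom y = (C'.toCycles (i + 2) (i + 1)).hom u := by
    apply (ModuleCat.mono_iff_injective (C'.iCycles (i + 1))).1 inferInstance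
    have e1 := congrArg (fun f : C.cycles (i + 1) ⟶ C'.X (i + 1) => f.hom y)
      (HomologicalComplex.cyclesMap_i ψ (i + 1))
    have e2 := congrArg (fun f : C'.X (i + 2) ⟶ C'.X (i + 1) => f.hom u)
      (C'.toCycles_i (i + 2) (i + 1))
    exact e1.trans (hu.symm.trans e2.symm)
  show (C'.homologyπ (i + 1)).hom ((HomologicalComplex.cyclesMap ψ (i + 1)).hom y) = 0
  rw [h1]
  exact congrArg (fun f : C'.X (i + 2) ⟶ C'.homology (i + 1) => f.hom u)
    (C'.toCycles_comp_homologyπ (i + 2) (i + 1))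

/-- The criterion for a map on `Tor` to vanish. -/
theorem tor_map_eq_zero {Y Z : ModuleCat.{u} R} (f : Y ⟶ Z) (P : ProjectiveResolution Y)
    (Q : ProjectiveResolution Z) (φ : P.complex ⟶ Q.complex) (hφ : Lifts φ f)
    (M : Type u) [AddCommGroup M] [Module R M] (j : ℕ) (h : KillsAt M φ j) :
    ((Tor (ModuleCat.{u} R) (j + 1)).obj (ModuleCat.of R M)).map f = 0 := by
  let G : ModuleCat.{u} R ⥤ ModuleCat.{u} R := (tensoringLeft (ModuleCat.{u} R)).obj (ModuleCat.of R M)
  change (G.leftDerived (j + 1)).map f = 0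
  have e := ProjectiveResolution.isoLeftDerivedObj_hom_naturality f P Q φ hφ G (j + 1)
  have z : HomologicalComplex.homologyMap ((G.mapHomologicalComplex (ComplexShape.down ℕ)).map φ) (j + 1) = 0 :=
    homologyMap_eq_zero _ j h
  rw [← cancel_mono (Q.isoLeftDerivedObj G (j + 1)).hom, zero_comp, e]
  exact (congrArg _ z).trans comp_zero

/-- Dimension shifting. -/
theorem kills_succ {Y Z : ModuleCat.{u} R} {P : ProjectiveResolution Y} {Q : ProjectiveResolution Z}
    (φ : P.complex ⟶ Q.complex) {K F N : Type u} [AddCommGroup K] [Module R K] [AddCommGroup F]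
    [Module R F] [AddCommGroup N] [Module R N] [Module.Flat R F] (ι : K →ₗ[R] F) (π : F →ₗ[R] N)
    (hι : Function.Injective ι) (hex : Function.Exact ι π) (hπ : Function.Surjective π) (j : ℕ)
    (h : ∀ (w : F ⊗[R] P.complex.X (j + 1)) (v : K ⊗[R] P.complex.X j),
      ι.rTensor _ v = (dd P.complex j).lTensor F w →
      (φ.f j).hom.lTensor K v ∈ LinearMap.range ((dd Q.complex j).lTensor K)) :
    KillsAt N φ j := by
  intro z hz
  obtain ⟨w, rfl⟩ := LinearMap.rTensor_surjective (P.complex.X (j + 1)) hπ z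
  have h1 : π.rTensor _ ((dd P.complex j).lTensor F w) = 0 := by
    rw [← LinearMap.comp_apply, LinearMap.rTensor_comp_lTensor, ← LinearMap.lTensor_comp_rTensor]
    exact hz
  obtain ⟨v, hv⟩ := ((rTensor_exact (P.complex.X j) hex hπ) _).1 h1
  obtain ⟨u, hu⟩ := h w v hv
  have h2 : (dd Q.complex j).lTensor F
      ((φ.f (j + 1)).hom.lTensor F w - ι.rTensor _ u) = 0 := by
    rw [map_sub, sub_eq_zero, ← LinearMap.comp_apply, ← LinearMap.lTensor_comp, ← comm_hom,
      LinearMap.lTensor_comp, LinearMap.comp_apply, ← hv, ← LinearMap.comp_apply,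
      LinearMap.lTensor_comp_rTensor, ← LinearMap.rTensor_comp_lTensor, LinearMap.comp_apply, ← hu,
      ← LinearMap.comp_apply (ι.rTensor _), LinearMap.rTensor_comp_lTensor,
      ← LinearMap.lTensor_comp_rTensor, LinearMap.comp_apply]
  obtain ⟨r, hr⟩ := ((Module.Flat.lTensor_exact F (exact_succ Q j)) _).1 h2
  refine ⟨π.rTensor _ r, ?_⟩
  rw [← LinearMap.comp_apply, LinearMap.lTensor_comp_rTensor, ← LinearMap.rTensor_comp_lTensor,
    LinearMap.comp_apply, hr, map_sub, ← LinearMap.comp_apply (π.rTensor _) (ι.rTensor _),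
    ← LinearMap.rTensor_comp, hex.linearMap_comp_eq_zero, LinearMap.rTensor_zero,
    LinearMap.zero_apply, sub_zero, ← LinearMap.comp_apply, LinearMap.rTensor_comp_lTensor,
    ← LinearMap.lTensor_comp_rTensor, LinearMap.comp_apply]

/-- Dimension shifting, iterated step. -/
theorem kills_shift {Y Z : ModuleCat.{u} R} {P : ProjectiveResolution Y} {Q : ProjectiveResolution Z}
    (φ : P.complex ⟶ Q.complex) {K F N : Type u} [AddCommGroup K] [Module R K] [AddCommGroup F]
    [Module R F] [AddCommGroup N] [Module R N] [Module.Flat R F] (ι : K →ₗ[R] F) (π : F →ₗ[R] N)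
    (hι : Function.Injective ι) (hex : Function.Exact ι π) (hπ : Function.Surjective π) (j : ℕ)
    (h : KillsAt K φ j) : KillsAt N φ (j + 1) := by
  refine kills_succ φ ι π hι hex hπ (j + 1) fun w v hv => h v ?_
  apply Module.Flat.rTensor_preserves_injective_linearMap (M := P.complex.X j) ι hι
  rw [map_zero, ← LinearMap.comp_apply, LinearMap.rTensor_comp_lTensor,
    ← LinearMap.lTensor_comp_rTensor, LinearMap.comp_apply, hv, ← LinearMap.comp_apply,
    ← LinearMap.lTensor_comp, dd_comp_dd, LinearMap.lTensor_zero, LinearMap.zero_apply]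

section Ideal

variable (I : Ideal R)

/-- `R / I ^ n` as an object. -/
noncomputable abbrev Q (n : ℕ) : ModuleCat.{u} R := ModuleCat.of R (R ⧸ I ^ n)

/-- The transition map. -/
noncomputable abbrev tr {n n' : ℕ} (h : n' ≤ n) : Q I n ⟶ Q I n' :=
  ModuleCat.ofHom (Submodule.mapQ (I ^ n) (I ^ n') LinearMap.id (Ideal.pow_le_pow_right h))

theorem tr_comp {n n' n'' : ℕ} (h : n' ≤ n) (h' : n'' ≤ n') :
    tr I h ≫ tr I h' = tr I (h'.trans h) := by
  apply ModuleCat.hom_ext
  ext
  rfl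

/-- The chosen resolution of `R / I ^ n`. -/
noncomputable def res (n : ℕ) : ProjectiveResolution (Q I n) := ProjectiveResolution.of _

/-- Uniform vanishing of the transition maps in degree `j + 1`, for the module `N`. -/
def ProZero (N : Type u) [AddCommGroup N] [Module R N] (j c : ℕ) : Prop :=
  ∀ (n n' : ℕ) (hn : n' + c = n) (φ : (res I n).complex ⟶ (res I n').complex),
    Lifts φ (tr I (show n' ≤ n by omega)) → KillsAt N φ j

theorem proZero_zero [IsNoetherianRing R] (N : Type u) [AddCommGroup N] [Module R N]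
    [Module.Finite R N] : ∃ c, ProZero I N 0 c := by
  obtain ⟨r, π, hπ⟩ := Module.Finite.exists_fin' R N
  obtain ⟨k, hk⟩ := Ideal.exists_pow_inf_eq_pow_smul I (LinearMap.ker π)
  refine ⟨k, fun n n' hn φ hφ => ?_⟩
  refine kills_succ φ (LinearMap.ker π).subtype π Subtype.coe_injective
    (LinearMap.exact_subtype_ker_map π) hπ 0 ?_
  generalize LinearMap.ker π = K at hk ⊢
  intro w v hv
  obtain ⟨x, hx⟩ := (TensorProduct.tensorQuotEquivQuotSMul K (I ^ n)).symm.surjective
    ((aug (res I n)).hom.lTensor K v)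
  obtain ⟨y, rfl⟩ := Submodule.mkQ_surjective _ x
  rw [Submodule.mkQ_apply, TensorProduct.tensorQuotEquivQuotSMul_symm_mk] at hx
  have h1 : (y : Fin r → R) ∈ I ^ n • (⊤ : Submodule R (Fin r → R)) := by
    have h2 : K.subtype.rTensor (R ⧸ I ^ n) (y ⊗ₜ[R] (1 : R ⧸ I ^ n)) = 0 := by
      rw [hx, ← LinearMap.comp_apply, LinearMap.rTensor_comp_lTensor,
        ← LinearMap.lTensor_comp_rTensor, LinearMap.comp_apply, hv, ← LinearMap.comp_apply,
        ← LinearMap.lTensor_comp, (exact₀ (res I n)).linearMap_comp_eq_zero, LinearMap.lTensor_zero,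
        LinearMap.zero_apply]
    have h3 := congrArg (TensorProduct.tensorQuotEquivQuotSMul (Fin r → R) (I ^ n)) h2
    rw [LinearMap.rTensor_tmul, map_zero] at h3
    change TensorProduct.tensorQuotEquivQuotSMul (Fin r → R) (I ^ n)
      ((y : Fin r → R) ⊗ₜ[R] Ideal.Quotient.mk (I ^ n) 1) = 0 at h3
    rw [TensorProduct.tensorQuotEquivQuotSMul_tmul_mk, one_smul] at h3
    exact (Submodule.Quotient.mk_eq_zero _).1 h3
  have h4 : y ∈ I ^ n' • (⊤ : Submodule R K) := by
    have h5 : (y : Fin r → R) ∈ I ^ n • ⊤ ⊓ K := ⟨h1, y.2⟩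
    rw [hk n (by omega), show n - k = n' by omega] at h5
    have h6 : (y : Fin r → R) ∈ I ^ n' • K := Submodule.smul_mono le_rfl inf_le_right h5
    have h7 : (y : Fin r → R) ∈ Submodule.map K.subtype (I ^ n' • ⊤) := by
      rw [Submodule.map_smul'', Submodule.map_subtype_top]; exact h6
    obtain ⟨y', hy', e⟩ := Submodule.mem_map.1 h7
    exact Subtype.ext e ▸ hy'
  refine ((lTensor_exact K (exact₀ (res I n')) (surj_π (res I n'))) _).1 ?_
  have e : (aug (res I n')).hom ∘ₗ (φ.f 0).hom =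
      (tr I (show n' ≤ n by omega)).hom ∘ₗ (aug (res I n)).hom :=
    congrArg ModuleCat.Hom.hom hφ
  rw [← LinearMap.comp_apply, ← LinearMap.lTensor_comp, e, LinearMap.lTensor_comp,
    LinearMap.comp_apply, ← hx, LinearMap.lTensor_tmul]
  apply (TensorProduct.tensorQuotEquivQuotSMul K (I ^ n')).injective
  rw [map_zero]
  change TensorProduct.tensorQuotEquivQuotSMul K (I ^ n') (y ⊗ₜ[R] Ideal.Quotient.mk (I ^ n') 1) = 0
  rw [TensorProduct.tensorQuotEquivQuotSMul_tmul_mk, one_smul]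
  exact (Submodule.Quotient.mk_eq_zero _).2 h4

/-- The transition maps of `Tor_{j+1}(N, R / I ^ n)` vanish uniformly for a finite module `N`. -/
theorem proZero [IsNoetherianRing R] (j : ℕ) : ∀ (N : Type u) [AddCommGroup N] [Module R N]
    [Module.Finite R N], ∃ c, ProZero I N j c := by
  induction j with
  | zero => intro N _ _ _; exact proZero_zero I N
  | succ j ih =>
    intro N _ _ _
    obtain ⟨r, π, hπ⟩ := Module.Finite.exists_fin' R N
    obtain ⟨c, hc⟩ := ih (LinearMap.ker π)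
    exact ⟨c, fun n n' hn φ hφ => kills_shift φ (LinearMap.ker π).subtype π Subtype.coe_injective
      (LinearMap.exact_subtype_ker_map π) hπ j (hc n n' hn φ hφ)⟩

end Ideal

/-- A map with image in `J • ⊤` dies after tensoring with a module killed by `J`. -/
theorem lTensor_eq_zero {X Y M : Type u} [AddCommGroup X] [Module R X] [AddCommGroup Y] [Module R Y]
    [AddCommGroup M] [Module R M] (J : Ideal R) (hM : ∀ a ∈ J, ∀ x : M, a • x = 0) (f : X →ₗ[R] Y)
    (hf : ∀ x, f x ∈ J • (⊤ : Submodule R Y)) : f.lTensor M = 0 := by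
  refine TensorProduct.ext' fun m x => ?_
  rw [LinearMap.lTensor_tmul, LinearMap.zero_apply]
  refine Submodule.smul_induction_on (p := fun y => m ⊗ₜ[R] y = (0 : M ⊗[R] Y)) (hf x)
    (fun a ha y _ => ?_) (fun y z hy hz => ?_)
  · rw [TensorProduct.tmul_smul, TensorProduct.smul_tmul', hM a ha, TensorProduct.zero_tmul]
  · rw [TensorProduct.tmul_add, hy, hz, add_zero]

/-- Lifting modulo a submodule. -/
theorem exists_lift_mod {X Y Y' : Type u} [AddCommGroup X] [Module R X] [AddCommGroup Y] [Module R Y]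
    [AddCommGroup Y'] [Module R Y'] [Module.Projective R X] (S : Submodule R Y) (f : X →ₗ[R] Y)
    (d : Y' →ₗ[R] Y) (h : ∀ x, f x ∈ LinearMap.range d ⊔ S) :
    ∃ t : X →ₗ[R] Y', ∀ x, f x - d (t x) ∈ S := by
  obtain ⟨t, ht⟩ := Module.projective_lifting_property (S.mkQ ∘ₗ d).rangeRestrict
    (LinearMap.codRestrict (LinearMap.range (S.mkQ ∘ₗ d)) (S.mkQ ∘ₗ f) fun x => by
      obtain ⟨y, ⟨u, rfl⟩, s, hs, e⟩ := Submodule.mem_sup.1 (h x)
      refine ⟨u, ?_⟩
      rw [LinearMap.comp_apply, LinearMap.comp_apply, ← e, map_add, Submodule.mkQ_apply S s,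
        (Submodule.Quotient.mk_eq_zero S).2 hs, add_zero])
    (LinearMap.surjective_rangeRestrict _)
  refine ⟨t, fun x => (Submodule.Quotient.eq S).1 ?_⟩
  exact (congrArg Subtype.val (LinearMap.congr_fun ht x)).symm

/-- Lifting through a map. -/
theorem exists_lift {X Y Y' : Type u} [AddCommGroup X] [Module R X] [AddCommGroup Y] [Module R Y]
    [AddCommGroup Y'] [Module R Y'] [Module.Projective R X] (f : X →ₗ[R] Y)
    (d : Y' →ₗ[R] Y) (h : ∀ x, f x ∈ LinearMap.range d) :
    ∃ t : X →ₗ[R] Y', ∀ x, d (t x) = f x := by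
  obtain ⟨t, ht⟩ := exists_lift_mod ⊥ f d (fun x => Submodule.mem_sup_left (h x))
  exact ⟨t, fun x => (sub_eq_zero.1 ((Submodule.mem_bot R).1 (ht x))).symm⟩

section Killed

variable [IsNoetherianRing R] (I : Ideal R) (m : ℕ)

/-- `F` is null homotopic modulo `I ^ m` in degree `k + 1`. -/
def NullMod {K K' : ChainComplex (ModuleCat.{u} R) ℕ} (F : K ⟶ K') (k : ℕ) : Prop :=
  ∃ (t : K.X (k + 1) →ₗ[R] K'.X (k + 2)) (b : K.X k →ₗ[R] K'.X (k + 1)), ∀ x,
    (F.f (k + 1)).hom x - dd K' (k + 1) (t x) - b (dd K k x) ∈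
      I ^ m • (⊤ : Submodule R (K'.X (k + 1)))

theorem nullMod_step {K K' K'' : ChainComplex (ModuleCat.{u} R) ℕ} (F : K ⟶ K') (φ : K' ⟶ K'')
    (k : ℕ) [Module.Projective R (K.X (k + 1))] (a : K.X k →ₗ[R] K'.X (k + 1))
    (ha : ∀ x, dd K' k ((F.f (k + 1)).hom x - a (dd K k x)) ∈ I ^ m • (⊤ : Submodule R (K'.X k)))
    (hφ : KillsAt (R ⧸ I ^ m) φ k) : NullMod I m (F ≫ φ) k := by
  have key : ∀ x, (φ.f (k + 1)).hom ((F.f (k + 1)).hom x - a (dd K k x)) ∈
      LinearMap.range (dd K'' (k + 1)) ⊔ I ^ m • (⊤ : Submodule R (K''.X (k + 1))) := fun x => by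
    set g := (F.f (k + 1)).hom x - a (dd K k x)
    have h1 : (dd K' k).lTensor (R ⧸ I ^ m) (Ideal.Quotient.mk (I ^ m) 1 ⊗ₜ[R] g) = 0 := by
      apply (TensorProduct.quotTensorEquivQuotSMul (K'.X k) (I ^ m)).injective
      rw [LinearMap.lTensor_tmul, map_zero, TensorProduct.quotTensorEquivQuotSMul_mk_tmul, one_smul]
      exact (Submodule.Quotient.mk_eq_zero _).2 (ha x)
    obtain ⟨u, hu⟩ := hφ _ h1
    obtain ⟨v, rfl⟩ := (TensorProduct.quotTensorEquivQuotSMul (K''.X (k + 2)) (I ^ m)).symm.surjective u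
    obtain ⟨v, rfl⟩ := Submodule.mkQ_surjective _ v
    rw [Submodule.mkQ_apply, TensorProduct.quotTensorEquivQuotSMul_symm_mk,
      LinearMap.lTensor_tmul, LinearMap.lTensor_tmul] at hu
    have h2 := congrArg (TensorProduct.quotTensorEquivQuotSMul (K''.X (k + 1)) (I ^ m)) hu
    change TensorProduct.quotTensorEquivQuotSMul (K''.X (k + 1)) (I ^ m)
      (Ideal.Quotient.mk (I ^ m) 1 ⊗ₜ[R] _) = _ at h2
    rw [TensorProduct.quotTensorEquivQuotSMul_mk_tmul, TensorProduct.quotTensorEquivQuotSMul_mk_tmul,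
      one_smul, one_smul] at h2
    refine Submodule.mem_sup.2 ⟨dd K'' (k + 1) v, ⟨v, rfl⟩, _, (Submodule.Quotient.eq _).1 h2.symm,
      add_sub_cancel _ _⟩
  obtain ⟨t, ht⟩ := exists_lift_mod (I ^ m • (⊤ : Submodule R (K''.X (k + 1))))
    ((φ.f (k + 1)).hom ∘ₗ ((F.f (k + 1)).hom - a ∘ₗ dd K k)) (dd K'' (k + 1)) key
  refine ⟨t, (φ.f (k + 1)).hom ∘ₗ a, fun x => ?_⟩
  have := ht x
  simp only [LinearMap.comp_apply, LinearMap.sub_apply, map_sub] at this
  rw [HomologicalComplex.comp_f, ModuleCat.comp_apply]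
  convert this using 1
  simp only [LinearMap.comp_apply]
  abel

theorem NullMod.next {K K' : ChainComplex (ModuleCat.{u} R) ℕ} {F : K ⟶ K'} {k : ℕ}
    (h : NullMod I m F k) : ∃ a : K.X (k + 1) →ₗ[R] K'.X (k + 2), ∀ x,
      dd K' (k + 1) ((F.f (k + 2)).hom x - a (dd K (k + 1) x)) ∈
        I ^ m • (⊤ : Submodule R (K'.X (k + 1))) := by
  obtain ⟨t, b, h⟩ := h
  refine ⟨t, fun x => ?_⟩
  have := h (dd K (k + 1) x)
  rw [dd_dd, map_zero, sub_zero, comm_apply] at this
  rw [map_sub]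
  exact this

theorem exists_split {n : ℕ} (hn : m ≤ n) : ∃ a : (res I n).complex.X 0 →ₗ[R] (res I n).complex.X 1,
    ∀ x, dd (res I n).complex 0 (x - a (dd (res I n).complex 0 x)) ∈
      I ^ m • (⊤ : Submodule R ((res I n).complex.X 0)) := by
  let P := res I n
  obtain ⟨e0, he0⟩ := surj_π P (Submodule.Quotient.mk (1 : R))
  obtain ⟨ε, hε⟩ := Module.projective_lifting_property (Submodule.mkQ (I ^ n)) (aug P).hom
    (Submodule.mkQ_surjective _)
  have he : ∀ x, (Submodule.Quotient.mk (ε x) : R ⧸ I ^ n) = (aug P).hom x :=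
    fun x => LinearMap.congr_fun hε x
  obtain ⟨a, ha⟩ := exists_lift (LinearMap.id - LinearMap.toSpanSingleton R _ e0 ∘ₗ ε)
    (dd P.complex 0) fun x => (exact₀ P _).1 (by
      rw [LinearMap.sub_apply, LinearMap.id_apply, LinearMap.comp_apply,
        LinearMap.toSpanSingleton_apply, map_sub, map_smul, he0, ← Submodule.Quotient.mk_smul,
        smul_eq_mul, mul_one, he, sub_self])
  refine ⟨a, fun x => ?_⟩
  rw [map_sub, ha]
  simp only [LinearMap.sub_apply, LinearMap.id_apply, LinearMap.comp_apply,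
    LinearMap.toSpanSingleton_apply, sub_sub_cancel]
  refine Submodule.smul_mem_smul (Ideal.pow_le_pow_right hn ((Submodule.Quotient.mk_eq_zero _).1 ?_))
    Submodule.mem_top
  exact (he _).trans ((exact₀ P).apply_apply_eq_zero x)

theorem exists_nullMod (k : ℕ) : ∃ c, ∀ n n' : ℕ, ∀ h : n' + c = n, m ≤ n →
    ∃ φ : (res I n).complex ⟶ (res I n').complex,
      Lifts φ (tr I (show n' ≤ n by omega)) ∧ NullMod I m φ k := by
  induction k with
  | zero =>
    obtain ⟨c, hc⟩ := proZero I 0 (R ⧸ I ^ m)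
    refine ⟨c, fun n n' h hm => ?_⟩
    obtain ⟨φ, hφ⟩ := exists_lifts (res I n) (res I n') (tr I (show n' ≤ n by omega))
    obtain ⟨a, ha⟩ := exists_split I m hm
    have := nullMod_step I m (𝟙 _) φ 0 a (fun x => by simpa using ha x) (hc n n' h φ hφ)
    rw [Category.id_comp] at this
    exact ⟨φ, hφ, this⟩
  | succ k ih =>
    obtain ⟨c, hc⟩ := ih
    obtain ⟨d, hd⟩ := proZero I (k + 1) (R ⧸ I ^ m)
    refine ⟨c + d, fun n n' h hm => ?_⟩
    obtain ⟨F, hF, hF'⟩ := hc n (n' + d) (by omega) hm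
    obtain ⟨φ, hφ⟩ := exists_lifts (res I (n' + d)) (res I n')
      (tr I (show n' ≤ n' + d by omega))
    obtain ⟨a, ha⟩ := hF'.next
    refine ⟨F ≫ φ, ?_, nullMod_step I m F φ (k + 1) a ha (hd _ n' rfl φ hφ)⟩
    rw [← tr_comp I (show n' + d ≤ n by omega) (show n' ≤ n' + d by omega)]
    exact hF.comp hφ

theorem NullMod.kills {K K' : ChainComplex (ModuleCat.{u} R) ℕ} {F : K ⟶ K'} {k : ℕ}
    (h : NullMod I m F k) (M : Type u) [AddCommGroup M] [Module R M]
    (hM : ∀ a ∈ I ^ m, ∀ x : M, a • x = 0) : KillsAt M F k := by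
  obtain ⟨t, b, h⟩ := h
  intro z hz
  have h0 := LinearMap.congr_fun (lTensor_eq_zero (I ^ m) hM
    ((F.f (k + 1)).hom - dd K' (k + 1) ∘ₗ t - b ∘ₗ dd K k) h) z
  simp only [LinearMap.lTensor_sub, LinearMap.lTensor_comp, LinearMap.sub_apply, LinearMap.comp_apply,
    hz, map_zero, sub_zero, LinearMap.zero_apply, sub_eq_zero] at h0
  exact ⟨_, h0.symm⟩

/-- For modules killed by `I ^ m` the transition maps on `Tor` in positive degree are uniformly zero. -/
theorem tor_proZero_killed (j : ℕ) : ∃ c : ℕ, ∀ (M : Type u) [AddCommGroup M] [Module R M],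
    (∀ a ∈ I ^ m, ∀ x : M, a • x = 0) → ∀ n : ℕ, c ≤ n →
      ((Tor (ModuleCat.{u} R) (j + 1)).obj (ModuleCat.of R M)).map
        (tr I (show n - c ≤ n from Nat.sub_le n c)) = 0 := by
  obtain ⟨c, hc⟩ := exists_nullMod I m j
  refine ⟨c + m, fun M _ _ hM n hn => ?_⟩
  obtain ⟨φ, hφ, h⟩ := hc n (n - c) (by omega) (by omega)
  rw [← tr_comp I (show n - c ≤ n by omega) (show n - (c + m) ≤ n - c by omega), Functor.map_comp,
    tor_map_eq_zero _ _ _ φ hφ M j (h.kills I m M hM), zero_comp]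

end Killed

end Groth.Agent.GrLib8.TorPro
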