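import Mathlib
import Groth.Agent.TorVanish.Flat

/-!
# `Tor` vanishing for powers of the ideal of variables
-/

universe u

open TensorProduct Groth.Agent.TorVanish MvPolynomial

namespace Groth.Agent.GrLib8.TorPro

section Colon

variable {S : Type u} [CommRing S]

/-- Multiplication by `x` from `S ⧸ J` to `S ⧸ J'`. -/
noncomputable def mulQ (J J' : Ideal S) (x : S) (h : ∀ p ∈ J, x * p ∈ J') : (S ⧸ J) →ₗ[S] S ⧸ J' :=
  Submodule.mapQ J J' (LinearMap.mulLeft S x) h

theorem mulQ_injective (J J' : Ideal S) (x : S) (h : ∀ p ∈ J, x * p ∈ J')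
    (hcolon : ∀ p, x * p ∈ J' → p ∈ J) : Function.Injective (mulQ J J' x h) := by
  refine (injective_iff_map_eq_zero _).2 fun z hz => ?_
  obtain ⟨p, rfl⟩ := Submodule.mkQ_surjective J z
  exact (Submodule.Quotient.mk_eq_zero J).2 (hcolon p ((Submodule.Quotient.mk_eq_zero J').1 hz))

theorem mulQ_exact (J J' J'' : Ideal S) (x : S) (h : ∀ p ∈ J, x * p ∈ J')
    (hsup : J' ⊔ Ideal.span {x} = J'') : Function.Exact (mulQ J J' x h)
      (Submodule.factor (show J' ≤ J'' from hsup ▸ le_sup_left)) := by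
  intro z
  obtain ⟨p, rfl⟩ := Submodule.mkQ_surjective J' z
  constructor
  · intro hp
    have hp' : p ∈ J' ⊔ Ideal.span {x} := hsup.symm ▸ (Submodule.Quotient.mk_eq_zero J'').1 hp
    obtain ⟨a, ha, b, hb, rfl⟩ := Submodule.mem_sup.1 hp'
    obtain ⟨c, rfl⟩ := Ideal.mem_span_singleton'.1 hb
    refine ⟨Submodule.Quotient.mk c, (Submodule.Quotient.eq J').2 ?_⟩
    show x * c - (a + c * x) ∈ J'
    rw [mul_comm c x, sub_add_cancel_right]
    exact neg_mem ha
  · rintro ⟨c, hc⟩
    obtain ⟨c, rfl⟩ := Submodule.mkQ_surjective J c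
    rw [← hc]
    exact (Submodule.Quotient.mk_eq_zero J'').2 (hsup ▸ Submodule.mem_sup_right
      (Ideal.mem_span_singleton'.2 ⟨c, mul_comm c x⟩))

end Colon

section Vars

variable (A : Type u) [CommRing A] {t : ℕ}

/-- The variables before `k`. -/
noncomputable def varsLT (k : ℕ) : Ideal (MvPolynomial (Fin t) A) :=
  Ideal.span (X '' {j : Fin t | (j : ℕ) < k})

/-- The variables before `k` and the `q`-th power of all of them. -/
noncomputable def Jkq (k q : ℕ) : Ideal (MvPolynomial (Fin t) A) :=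
  varsLT A k ⊔ idealOfVars (Fin t) A ^ q

variable {A}

theorem mem_varsLT {k : ℕ} {p : MvPolynomial (Fin t) A} :
    p ∈ varsLT A k ↔ ∀ m ∈ p.support, ∃ j : Fin t, (j : ℕ) < k ∧ m j ≠ 0 :=
  mem_ideal_span_X_image

theorem mem_Jkq {k q : ℕ} {p : MvPolynomial (Fin t) A} :
    p ∈ Jkq A k q ↔ ∀ m ∈ p.support, (∃ j : Fin t, (j : ℕ) < k ∧ m j ≠ 0) ∨ q ≤ Finsupp.degree m := by
  classical
  constructor
  · intro hp m hm
    obtain ⟨a, ha, b, hb, rfl⟩ := Submodule.mem_sup.1 hp
    rcases Finset.mem_union.1 (MvPolynomial.support_add hm) with h | h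
    · exact Or.inl (mem_varsLT.1 ha m h)
    · exact Or.inr ((mem_pow_idealOfVars_iff q b).1 hb m h)
  · intro h
    rw [p.as_sum]
    refine Ideal.sum_mem _ fun m hm => ?_
    have hs : (monomial m (coeff m p)).support ⊆ {m} := support_monomial_subset
    rcases h m hm with h' | h'
    · refine Submodule.mem_sup_left (mem_varsLT.2 fun m' hm' => ?_)
      rw [Finset.mem_singleton.1 (hs hm')]
      exact h'
    · refine Submodule.mem_sup_right ((mem_pow_idealOfVars_iff q _).2 fun m' hm' => ?_)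
      rw [Finset.mem_singleton.1 (hs hm')]
      exact h'

theorem varsLT_zero : varsLT A (t := t) 0 = ⊥ := by
  simp [varsLT]

theorem varsLT_succ {k : ℕ} (hk : k < t) :
    varsLT A (k + 1) = varsLT A k ⊔ Ideal.span {X (⟨k, hk⟩ : Fin t)} := by
  rw [varsLT, varsLT, ← Ideal.span_union]
  congr 1
  rw [← Set.image_singleton, ← Set.image_union]
  congr 1
  ext j
  simp only [Set.mem_setOf_eq, Set.mem_union, Set.mem_singleton_iff, Fin.ext_iff]
  omega

theorem idealOfVars_le_varsLT {k : ℕ} (hk : t ≤ k) : idealOfVars (Fin t) A ≤ varsLT A k := by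
  rw [idealOfVars, Ideal.span_le]
  rintro - ⟨j, rfl⟩
  exact Ideal.subset_span ⟨j, lt_of_lt_of_le j.2 hk, rfl⟩

theorem colon_varsLT {k : ℕ} (hk : k < t) (p : MvPolynomial (Fin t) A)
    (h : X (⟨k, hk⟩ : Fin t) * p ∈ varsLT A k) : p ∈ varsLT A k := by
  refine mem_varsLT.2 fun m hm => ?_
  obtain ⟨j, hj, hj'⟩ := mem_varsLT.1 h (Finsupp.single ⟨k, hk⟩ 1 + m) (by
    rw [support_X_mul]
    exact Finset.mem_map.2 ⟨m, hm, rfl⟩)
  refine ⟨j, hj, fun h0 => hj' ?_⟩
  rw [Finsupp.add_apply, h0, Finsupp.single_apply, if_neg (by rw [Fin.ext_iff]; simp; omega), add_zero]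

theorem mul_mem_Jkq {k q : ℕ} (hk : k < t) (p : MvPolynomial (Fin t) A) (h : p ∈ Jkq A k q) :
    X (⟨k, hk⟩ : Fin t) * p ∈ Jkq A k (q + 1) := by
  obtain ⟨a, ha, b, hb, rfl⟩ := Submodule.mem_sup.1 h
  rw [mul_add]
  refine add_mem (Submodule.mem_sup_left (Ideal.mul_mem_left _ _ ha)) (Submodule.mem_sup_right ?_)
  rw [pow_succ']
  exact Ideal.mul_mem_mul (Ideal.subset_span ⟨_, rfl⟩) hb

theorem colon_Jkq {k q : ℕ} (hk : k < t) (p : MvPolynomial (Fin t) A)
    (h : X (⟨k, hk⟩ : Fin t) * p ∈ Jkq A k (q + 1)) : p ∈ Jkq A k q := by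
  refine mem_Jkq.2 fun m hm => ?_
  rcases mem_Jkq.1 h (Finsupp.single ⟨k, hk⟩ 1 + m) (by
    rw [support_X_mul]
    exact Finset.mem_map.2 ⟨m, hm, rfl⟩) with ⟨j, hj, hj'⟩ | h'
  · refine Or.inl ⟨j, hj, fun h0 => hj' ?_⟩
    rw [Finsupp.add_apply, h0, Finsupp.single_apply, if_neg (by rw [Fin.ext_iff]; simp; omega), add_zero]
  · refine Or.inr ?_
    rw [map_add, Finsupp.degree_single] at h'
    omega

variable {X' : ℕ → Type u} [∀ i, AddCommGroup (X' i)] [∀ i, Module (MvPolynomial (Fin t) A) (X' i)]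
  [∀ i, Module.Flat (MvPolynomial (Fin t) A) (X' i)]
  (d : ∀ i, X' (i + 1) →ₗ[MvPolynomial (Fin t) A] X' i) (hd : ∀ i x, d i (d (i + 1) x) = 0)
  (hex : ∀ i, Function.Exact (d (i + 1)) (d i))

include hd hex in
theorem E_varsLT : ∀ (k : ℕ), k ≤ t → ∀ i, k ≤ i →
    E d i (MvPolynomial (Fin t) A ⧸ (varsLT A k : Ideal (MvPolynomial (Fin t) A))) := by
  intro k
  induction k with
  | zero =>
    intro _ i _
    rw [varsLT_zero]
    haveI : Module.Flat (MvPolynomial (Fin t) A) (MvPolynomial (Fin t) A ⧸ (⊥ : Ideal (MvPolynomial (Fin t) A))) :=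
      Module.Flat.of_linearEquiv (Submodule.quotEquivOfEqBot ⊥ rfl)
    exact Module.Flat.lTensor_exact _ (hex i)
  | succ k ih =>
    intro hk i hi
    have hk' : k < t := by omega
    obtain ⟨i, rfl⟩ : ∃ j, i = j + 1 := ⟨i - 1, by omega⟩
    exact right_succ d hd
      (mulQ_injective (varsLT A k) (varsLT A k) _ (fun p hp => Ideal.mul_mem_left _ _ hp) (colon_varsLT hk'))
      (Submodule.factor_surjective _) (mulQ_exact _ _ _ _ _ (varsLT_succ hk').symm)
      (ih (by omega) (i + 1) (by omega)) (ih (by omega) i (by omega))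

include hd hex in
theorem E_Jkq : ∀ (q k : ℕ), k ≤ t → ∀ i, t ≤ i →
    E d i (MvPolynomial (Fin t) A ⧸ (Jkq A k q : Ideal (MvPolynomial (Fin t) A))) := by
  intro q
  induction q with
  | zero =>
    intro k _ i _
    haveI : Subsingleton (MvPolynomial (Fin t) A ⧸ (Jkq A k 0 : Ideal (MvPolynomial (Fin t) A))) :=
      Ideal.Quotient.subsingleton_iff.2 (by rw [Jkq, pow_zero, Ideal.one_eq_top, sup_top_eq])
    exact of_subsingleton d hd _
  | succ q ih =>
    intro k hk i hi
    induction h : t - k generalizing k with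
    | zero =>
      have e : Jkq A (t := t) k (q + 1) = varsLT A k := by
        rw [Jkq]
        exact sup_eq_left.2 ((Ideal.pow_le_self (Nat.succ_ne_zero q)).trans (idealOfVars_le_varsLT (by omega)))
      rw [e]
      exact E_varsLT d hd hex k hk i (by omega)
    | succ s ihs =>
      have hk' : k < t := by omega
      refine middle d hd
        (mulQ_injective (Jkq A k q) (Jkq A k (q + 1)) _ (mul_mem_Jkq hk') (colon_Jkq hk'))
        (Submodule.factor_surjective _) (mulQ_exact _ _ (Jkq A (k + 1) (q + 1)) _ _ ?_)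
        (ih k hk i hi) (ihs (k + 1) (by omega) (by omega))
      rw [Jkq, Jkq, varsLT_succ hk', sup_right_comm]

open CategoryTheory in
/-- `Tor` over the polynomial ring against powers of the variables vanishes above the number of variables. -/
theorem exact_lTensor_pow_idealOfVars (t : ℕ) (A : Type u) [CommRing A] (M : Type u) [AddCommGroup M]
    [Module (MvPolynomial (Fin t) A) M] (q i : ℕ) (hi : t ≤ i)
    (P : ProjectiveResolution (ModuleCat.of (MvPolynomial (Fin t) A)
      (MvPolynomial (Fin t) A ⧸ idealOfVars (Fin t) A ^ q))) :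
    Function.Exact ((TorDimLib.dP P (i + 1)).lTensor M) ((TorDimLib.dP P i).lTensor M) := by
  let W := ProjectiveResolution.of (ModuleCat.of (MvPolynomial (Fin t) A) M)
  have h := E_Jkq (X' := fun j => W.complex.X j) (TorDimLib.dP W) (TorDimLib.dP_dP W)
    (fun j => (ShortComplex.ShortExact.moduleCat_exact_iff_function_exact _).1 (W.exact_succ j))
    q 0 (Nat.zero_le t) i hi
  rw [Jkq, varsLT_zero, bot_sup_eq] at h
  exact (TorDimLib.isZero_tor_iff P (ModuleCat.of (MvPolynomial (Fin t) A) M) i).1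
    (isZero_tor_flip (i + 1) _ _ ((TorDimLib.isZero_tor_iff W
      (ModuleCat.of (MvPolynomial (Fin t) A) (MvPolynomial (Fin t) A ⧸ idealOfVars (Fin t) A ^ q)) i).2 h))

end Vars

end Groth.Agent.GrLib8.TorPro
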