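import Groth.Agent.GrLib8.TorPro.Basic
import Groth.Agent.GrLib8.TorPro.Monomial

/-!
# Uniform vanishing of `Tor` above the number of generators
-/

universe u

open CategoryTheory CategoryTheory.Limits MonoidalCategory TensorProduct

namespace Groth.Agent.GrLib8.TorPro

section BaseChange

variable {S A : Type u} [CommRing S] [CommRing A] [Algebra S A] (𝔪 : Ideal S) (I : Ideal A)
  (hI : I = Ideal.map (algebraMap S A) 𝔪)

/-- The terms of the base changed resolution. -/
abbrev KX (n j : ℕ) : Type u := A ⊗[S] (res 𝔪 n).complex.X j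

/-- The differentials of the base changed resolution. -/
noncomputable abbrev kd (n j : ℕ) : KX (A := A) 𝔪 n (j + 1) →ₗ[A] KX (A := A) 𝔪 n j :=
  (dd (res 𝔪 n).complex j).baseChange A

/-- The base change of a chain map. -/
noncomputable abbrev kmap {n n' : ℕ} (φ : (res 𝔪 n).complex ⟶ (res 𝔪 n').complex) (j : ℕ) :
    KX (A := A) 𝔪 n j →ₗ[A] KX (A := A) 𝔪 n' j :=
  (φ.f j).hom.baseChange A

theorem kd_kd (n j : ℕ) (x : KX (A := A) 𝔪 n (j + 2)) : kd 𝔪 n j (kd 𝔪 n (j + 1) x) = 0 := by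
  rw [← LinearMap.comp_apply, ← LinearMap.baseChange_comp, dd_comp_dd, LinearMap.baseChange_zero,
    LinearMap.zero_apply]

theorem kmap_comm {n n' : ℕ} (φ : (res 𝔪 n).complex ⟶ (res 𝔪 n').complex) (j : ℕ)
    (x : KX (A := A) 𝔪 n (j + 1)) : kmap 𝔪 φ j (kd 𝔪 n j x) = kd 𝔪 n' j (kmap 𝔪 φ (j + 1) x) := by
  rw [← LinearMap.comp_apply, ← LinearMap.baseChange_comp, comm_hom, LinearMap.baseChange_comp,
    LinearMap.comp_apply]

include hI in
theorem pow_map_mem {n : ℕ} {s : S} (hs : s ∈ 𝔪 ^ n) : algebraMap S A s ∈ I ^ n := by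
  rw [hI, ← Ideal.map_pow]
  exact Ideal.mem_map_of_mem _ hs

/-- The map of quotients. -/
noncomputable def psi (n : ℕ) : (S ⧸ 𝔪 ^ n) →ₗ[S] A ⧸ I ^ n :=
  Submodule.liftQ (𝔪 ^ n) (((Submodule.mkQ (I ^ n)).restrictScalars S).comp (Algebra.linearMap S A))
    fun _ hs => (Submodule.Quotient.mk_eq_zero (I ^ n)).2 (pow_map_mem 𝔪 I hI hs)

/-- The augmentation of the base changed resolution. -/
noncomputable def ke (n : ℕ) : KX (A := A) 𝔪 n 0 →ₗ[A] A ⧸ I ^ n :=
  (psi 𝔪 I hI n).liftBaseChange A ∘ₗ ((aug (res 𝔪 n)).hom.baseChange A)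

theorem psi_lift_tmul (n : ℕ) (a : A) :
    (psi 𝔪 I hI n).liftBaseChange A (a ⊗ₜ[S] Submodule.Quotient.mk (1 : S)) =
      Submodule.Quotient.mk a := by
  rw [LinearMap.liftBaseChange_tmul]
  show a • Submodule.Quotient.mk (p := I ^ n) (algebraMap S A 1) = _
  rw [map_one, ← Submodule.Quotient.mk_smul, smul_eq_mul, mul_one]

theorem exists_tmul_one (n : ℕ) (z : A ⊗[S] (S ⧸ 𝔪 ^ n)) :
    ∃ a : A, a ⊗ₜ[S] Submodule.Quotient.mk (1 : S) = z := by
  obtain ⟨x, rfl⟩ := (TensorProduct.tensorQuotEquivQuotSMul A (𝔪 ^ n)).symm.surjective z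
  obtain ⟨a, rfl⟩ := Submodule.mkQ_surjective _ x
  exact ⟨a, (TensorProduct.tensorQuotEquivQuotSMul_symm_mk (𝔪 ^ n) a).symm⟩

include hI in
theorem tmul_one_eq_zero {n : ℕ} {a : A} (ha : a ∈ I ^ n) :
    a ⊗ₜ[S] (Submodule.Quotient.mk (1 : S) : S ⧸ 𝔪 ^ n) = 0 := by
  rw [hI, ← Ideal.map_pow, Ideal.map] at ha
  induction ha using Submodule.span_induction with
  | mem x hx =>
    obtain ⟨s, hs, rfl⟩ := hx
    rw [Algebra.algebraMap_eq_smul_one, TensorProduct.smul_tmul, ← Submodule.Quotient.mk_smul,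
      smul_eq_mul, mul_one, (Submodule.Quotient.mk_eq_zero _).2 hs, TensorProduct.tmul_zero]
  | zero => exact TensorProduct.zero_tmul _ _
  | add x y _ _ hx hy => rw [TensorProduct.add_tmul, hx, hy, add_zero]
  | smul r x _ hx =>
    have h := congrArg (fun z : A ⊗[S] (S ⧸ 𝔪 ^ n) => r • z) hx
    simpa [TensorProduct.smul_tmul'] using h

theorem ke_surjective (n : ℕ) : Function.Surjective (ke 𝔪 I hI n) := by
  intro z
  obtain ⟨a, rfl⟩ := Submodule.mkQ_surjective _ z
  obtain ⟨x, hx⟩ := surj_π (res 𝔪 n) (Submodule.Quotient.mk (1 : S))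
  refine ⟨a ⊗ₜ x, ?_⟩
  rw [ke, LinearMap.comp_apply, LinearMap.baseChange_tmul, hx]
  exact psi_lift_tmul 𝔪 I hI n a

theorem mem_range_kd (n : ℕ) {x : KX (A := A) 𝔪 n 0} (hx : ke 𝔪 I hI n x = 0) :
    x ∈ LinearMap.range (kd (A := A) 𝔪 n 0) := by
  obtain ⟨a, ha⟩ := exists_tmul_one 𝔪 n ((aug (res 𝔪 n)).hom.baseChange A x)
  have h1 : (psi 𝔪 I hI n).liftBaseChange A ((aug (res 𝔪 n)).hom.baseChange A x) = 0 := hx
  rw [← ha, psi_lift_tmul] at h1
  have h2 : (aug (res 𝔪 n)).hom.lTensor A x = 0 := by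
    have : (aug (res 𝔪 n)).hom.baseChange A x = 0 :=
      ha ▸ tmul_one_eq_zero 𝔪 I hI ((Submodule.Quotient.mk_eq_zero _).1 h1)
    exact this
  obtain ⟨w, hw⟩ := ((lTensor_exact A (exact₀ (res 𝔪 n)) (surj_π (res 𝔪 n))) x).1 h2
  exact ⟨w, hw⟩

theorem ke_kd (n : ℕ) (x : KX (A := A) 𝔪 n 1) : ke 𝔪 I hI n (kd 𝔪 n 0 x) = 0 := by
  rw [ke, LinearMap.comp_apply, ← LinearMap.comp_apply ((aug (res 𝔪 n)).hom.baseChange A),
    ← LinearMap.baseChange_comp, (exact₀ (res 𝔪 n)).linearMap_comp_eq_zero, LinearMap.baseChange_zero,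
    LinearMap.zero_apply, map_zero]

theorem ke_kmap {n n' : ℕ} (hn : n' ≤ n) (φ : (res 𝔪 n).complex ⟶ (res 𝔪 n').complex)
    (hφ : Lifts φ (tr 𝔪 hn)) (x : KX (A := A) 𝔪 n 0) :
    ke 𝔪 I hI n' (kmap 𝔪 φ 0 x) = (tr I hn).hom (ke 𝔪 I hI n x) := by
  induction x using TensorProduct.induction_on with
  | zero => simp
  | add x y hx hy => rw [map_add, map_add, hx, hy, map_add, map_add]
  | tmul a x =>
    have e : (aug (res 𝔪 n')).hom ((φ.f 0).hom x) = (tr 𝔪 hn).hom ((aug (res 𝔪 n)).hom x) :=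
      congrArg (fun f : (res 𝔪 n).complex.X 0 ⟶ Q 𝔪 n' => f.hom x) hφ
    show (psi 𝔪 I hI n').liftBaseChange A (a ⊗ₜ[S] (aug (res 𝔪 n')).hom ((φ.f 0).hom x)) =
      (tr I hn).hom ((psi 𝔪 I hI n).liftBaseChange A (a ⊗ₜ[S] (aug (res 𝔪 n)).hom x))
    rw [e]
    obtain ⟨s, hs⟩ := Submodule.mkQ_surjective (𝔪 ^ n) ((aug (res 𝔪 n)).hom x)
    rw [← hs, LinearMap.liftBaseChange_tmul, LinearMap.liftBaseChange_tmul, map_smul]
    rfl

variable [IsNoetherianRing S] [Module.Finite S A]

/-- A map from the resolution to the base changed resolution, commuting in low degrees. -/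
theorem exists_f (k : ℕ) : ∃ c, ∀ n n' : ℕ, ∀ h : n' + c = n,
    ∃ f : ∀ j, (res I n).complex.X j →ₗ[A] KX (A := A) 𝔪 n' j,
      (∀ x, ke 𝔪 I hI n' (f 0 x) = (tr I (show n' ≤ n by omega)).hom ((aug (res I n)).hom x)) ∧
      ∀ j, j < k → ∀ x, f j (dd (res I n).complex j x) = kd 𝔪 n' j (f (j + 1) x) := by
  classical
  induction k with
  | zero =>
    refine ⟨0, fun n n' h => ?_⟩
    obtain rfl : n' = n := by omega
    obtain ⟨f0, hf0⟩ := Module.projective_lifting_property (ke 𝔪 I hI n') (aug (res I n')).hom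
      (ke_surjective 𝔪 I hI n')
    refine ⟨Function.update (fun j => 0) 0 f0, fun x => ?_, fun j hj => absurd hj (Nat.not_lt_zero j)⟩
    rw [Function.update_self]
    refine (LinearMap.congr_fun hf0 x).trans ?_
    obtain ⟨y, hy⟩ := Submodule.mkQ_surjective (I ^ n') ((aug (res I n')).hom x)
    rw [← hy]
    rfl
  | succ k ih =>
    obtain ⟨c, hc⟩ := ih
    cases k with
    | zero =>
      refine ⟨c, fun n n' h => ?_⟩
      obtain ⟨f, he, _⟩ := hc n n' h
      obtain ⟨f1, hf1⟩ := exists_lift (f 0 ∘ₗ dd (res I n).complex 0) (kd (A := A) 𝔪 n' 0)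
        fun x => mem_range_kd 𝔪 I hI n' (by
          rw [LinearMap.comp_apply, he, (exact₀ (res I n)).apply_apply_eq_zero, map_zero])
      refine ⟨Function.update f 1 f1, fun x => ?_, fun j hj x => ?_⟩
      · rw [Function.update_of_ne (show (0 : ℕ) ≠ 1 by omega)]
        exact he x
      · obtain rfl : j = 0 := by omega
        rw [Function.update_of_ne (show (0 : ℕ) ≠ 1 by omega), Function.update_self]
        exact (hf1 x).symm
    | succ k =>
      obtain ⟨d, hd⟩ := proZero 𝔪 k A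
      refine ⟨c + d, fun n n' h => ?_⟩
      obtain ⟨f, he, hf⟩ := hc n (n' + d) (by omega)
      obtain ⟨φ, hφ⟩ := exists_lifts (res 𝔪 (n' + d)) (res 𝔪 n') (tr 𝔪 (show n' ≤ n' + d by omega))
      obtain ⟨t, ht⟩ := exists_lift (kmap 𝔪 φ (k + 1) ∘ₗ f (k + 1) ∘ₗ dd (res I n).complex (k + 1))
        (kd (A := A) 𝔪 n' (k + 1)) fun x => by
          have h0 : kd 𝔪 (n' + d) k (f (k + 1) (dd (res I n).complex (k + 1) x)) = 0 := by
            rw [← hf k (by omega), dd_dd, map_zero]
          obtain ⟨u, hu⟩ := hd (n' + d) n' rfl φ hφ (f (k + 1) (dd (res I n).complex (k + 1) x)) h0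
          exact ⟨u, hu⟩
      refine ⟨Function.update (fun j => kmap 𝔪 φ j ∘ₗ f j) (k + 2) t, fun x => ?_, fun j hj x => ?_⟩
      · rw [Function.update_of_ne (show (0 : ℕ) ≠ k + 2 by omega), LinearMap.comp_apply,
          ke_kmap 𝔪 I hI (show n' ≤ n' + d by omega) φ hφ, he, ← ModuleCat.comp_apply, tr_comp]
      · rcases (Nat.lt_succ_iff.1 hj).lt_or_eq with hj' | rfl
        · rw [Function.update_of_ne (show j ≠ k + 2 by omega), Function.update_of_ne (show j + 1 ≠ k + 2 by omega),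
            LinearMap.comp_apply, LinearMap.comp_apply, hf j hj', kmap_comm]
        · rw [Function.update_of_ne (show k + 1 ≠ k + 2 by omega), Function.update_self]
          exact (ht x).symm

/-- A map from the base changed resolution to the resolution, commuting in low degrees. -/
theorem exists_g (n k : ℕ) : ∃ g : ∀ j, KX (A := A) 𝔪 n j →ₗ[A] (res I n).complex.X j,
    (∀ x, (aug (res I n)).hom (g 0 x) = ke 𝔪 I hI n x) ∧
      ∀ j, j < k → ∀ x, g j (kd 𝔪 n j x) = dd (res I n).complex j (g (j + 1) x) := by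
  classical
  induction k with
  | zero =>
    obtain ⟨g0, hg0⟩ := Module.projective_lifting_property (aug (res I n)).hom (ke 𝔪 I hI n)
      (surj_π (res I n))
    refine ⟨Function.update (fun j => 0) 0 g0, fun x => ?_, fun j hj => absurd hj (Nat.not_lt_zero j)⟩
    rw [Function.update_self]
    exact LinearMap.congr_fun hg0 x
  | succ k ih =>
    obtain ⟨g, he, hg⟩ := ih
    obtain ⟨t, ht⟩ := exists_lift (g k ∘ₗ kd 𝔪 n k) (dd (res I n).complex k) fun x => by
      cases k with
      | zero => exact (exact₀ (res I n) _).1 (by rw [LinearMap.comp_apply, he, ke_kd])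
      | succ k => exact (exact_succ (res I n) k _).1 (by
          rw [LinearMap.comp_apply, ← hg k (by omega), kd_kd, map_zero])
    refine ⟨Function.update g (k + 1) t, fun x => ?_, fun j hj x => ?_⟩
    · rw [Function.update_of_ne (show (0 : ℕ) ≠ k + 1 by omega)]
      exact he x
    · rcases (Nat.lt_succ_iff.1 hj).lt_or_eq with hj' | rfl
      · rw [Function.update_of_ne (show j ≠ k + 1 by omega),
          Function.update_of_ne (show j + 1 ≠ k + 1 by omega), hg j hj']
      · rw [Function.update_of_ne (show j ≠ j + 1 by omega), Function.update_self]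
        exact (ht x).symm

omit [IsNoetherianRing S] [Module.Finite S A] in
/-- A family lifting zero is null homotopic in each degree where it commutes. -/
theorem exists_null {n n' : ℕ} (D : ∀ j, (res I n).complex.X j →ₗ[A] (res I n').complex.X j)
    (h0 : ∀ x, (aug (res I n')).hom (D 0 x) = 0) : ∀ k,
    (∀ j, j < k + 1 → ∀ x, D j (dd (res I n).complex j x) = dd (res I n').complex j (D (j + 1) x)) →
    ∃ s : (res I n).complex.X k →ₗ[A] (res I n').complex.X (k + 1),
      ∀ x, dd (res I n').complex k (D (k + 1) x - s (dd (res I n).complex k x)) = 0 := by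
  intro k
  induction k with
  | zero =>
    intro hD
    obtain ⟨s, hs⟩ := exists_lift (D 0) (dd (res I n').complex 0) fun x => (exact₀ _ _).1 (h0 x)
    exact ⟨s, fun x => by rw [map_sub, hs, ← hD 0 (by omega), sub_self]⟩
  | succ k ih =>
    intro hD
    obtain ⟨s, hs⟩ := ih fun j hj => hD j (by omega)
    obtain ⟨u, hu⟩ := exists_lift (D (k + 1) - s ∘ₗ dd (res I n).complex k) (dd (res I n').complex (k + 1))
      fun x => (exact_succ (res I n') k _).1 (hs x)
    refine ⟨u, fun x => ?_⟩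
    rw [map_sub, hu, LinearMap.sub_apply, LinearMap.comp_apply, dd_dd, map_zero, sub_zero,
      ← hD (k + 1) (by omega), sub_self]

end BaseChange

section Poly

variable {S A : Type u} [CommRing S] [CommRing A] [Algebra S A] [IsNoetherianRing S] [Module.Finite S A]
  (𝔪 : Ideal S) (I : Ideal A) (hI : I = Ideal.map (algebraMap S A) 𝔪) (t : ℕ)
  (hvan : ∀ (M : Type u) [AddCommGroup M] [Module S M] (n : ℕ),
    Function.Exact ((dd (res 𝔪 n).complex (t + 1)).lTensor M) ((dd (res 𝔪 n).complex t).lTensor M))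

include hI hvan in
theorem exists_kills : ∃ c, ∀ n n' : ℕ, ∀ h : n' + c = n,
    ∃ φ : (res I n).complex ⟶ (res I n').complex, Lifts φ (tr I (show n' ≤ n by omega)) ∧
      ∀ (M : Type u) [AddCommGroup M] [Module A M], KillsAt M φ t := by
  obtain ⟨c, hc⟩ := exists_f 𝔪 I hI (t + 1)
  refine ⟨c, fun n n' h => ?_⟩
  obtain ⟨φ, hφ⟩ := exists_lifts (res I n) (res I n') (tr I (show n' ≤ n by omega))
  obtain ⟨f, hfe, hf⟩ := hc n n' h
  obtain ⟨g, hge, hg⟩ := exists_g 𝔪 I hI n' (t + 2)
  let D : ∀ j, (res I n).complex.X j →ₗ[A] (res I n').complex.X j := fun j => (φ.f j).hom - g j ∘ₗ f j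
  have h0 : ∀ x, (aug (res I n')).hom (D 0 x) = 0 := fun x => by
    simp only [D, LinearMap.sub_apply, LinearMap.comp_apply, map_sub, hge, hfe]
    exact sub_eq_zero.2 (congrArg (fun e : (res I n).complex.X 0 ⟶ Q I n' => e.hom x) hφ)
  obtain ⟨s, hs⟩ := exists_null I D h0 t fun j hj x => by
    simp only [D, LinearMap.sub_apply, LinearMap.comp_apply, map_sub, comm_apply, hf j hj,
      hg j (by omega)]
  obtain ⟨u, hu⟩ := exists_lift (D (t + 1) - s ∘ₗ dd (res I n).complex t) (dd (res I n').complex (t + 1))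
    fun x => (exact_succ (res I n') t _).1 (hs x)
  refine ⟨φ, hφ, fun M _ _ z hz => ?_⟩
  let _ : Module S M := Module.compHom M (algebraMap S A)
  haveI : IsScalarTower S A M :=
    ⟨fun s a m => show (s • a) • m = algebraMap S A s • a • m by rw [Algebra.smul_def, mul_smul]⟩
  let c0 : ∀ j, M ⊗[A] KX (A := A) 𝔪 n' j ≃ₗ[A] M ⊗[S] (res 𝔪 n').complex.X j := fun j =>
    AlgebraTensorModule.cancelBaseChange S A A M _
  have nat : ∀ j (y : M ⊗[A] KX (A := A) 𝔪 n' (j + 1)),
      c0 j ((kd 𝔪 n' j).lTensor M y) = (dd (res 𝔪 n').complex j).lTensor M (c0 (j + 1) y) := fun j y => by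
    induction y using TensorProduct.induction_on with
    | zero => simp only [map_zero]
    | add a b ha hb => simp only [map_add, ha, hb]
    | tmul m w =>
      induction w using TensorProduct.induction_on with
      | zero => simp only [TensorProduct.tmul_zero, map_zero]
      | add a b ha hb => simp only [TensorProduct.tmul_add, map_add, ha, hb]
      | tmul a x =>
        simp [c0, kd]
  have h1 : (kd 𝔪 n' t).lTensor M ((f (t + 1)).lTensor M z) = 0 := by
    have e : kd 𝔪 n' t ∘ₗ f (t + 1) = f t ∘ₗ dd (res I n).complex t :=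
      LinearMap.ext fun x => (hf t (by omega) x).symm
    rw [← LinearMap.comp_apply, ← LinearMap.lTensor_comp, e, LinearMap.lTensor_comp, LinearMap.comp_apply,
      hz, map_zero]
  obtain ⟨w, hw⟩ := ((hvan M n') (c0 (t + 1) ((f (t + 1)).lTensor M z))).1 (by rw [← nat, h1, map_zero])
  have hw' : (kd 𝔪 n' (t + 1)).lTensor M ((c0 (t + 2)).symm w) = (f (t + 1)).lTensor M z := by
    apply (c0 (t + 1)).injective
    rw [nat, LinearEquiv.apply_symm_apply, hw]
  refine ⟨(g (t + 2)).lTensor M ((c0 (t + 2)).symm w) + u.lTensor M z, ?_⟩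
  have e1 : dd (res I n').complex (t + 1) ∘ₗ g (t + 2) = g (t + 1) ∘ₗ kd 𝔪 n' (t + 1) :=
    LinearMap.ext fun x => (hg (t + 1) (by omega) x).symm
  have e2 : (φ.f (t + 1)).hom = dd (res I n').complex (t + 1) ∘ₗ u + s ∘ₗ dd (res I n).complex t +
      g (t + 1) ∘ₗ f (t + 1) := LinearMap.ext fun x => by
    simp only [LinearMap.add_apply, LinearMap.comp_apply, hu, D, LinearMap.sub_apply]
    abel
  rw [map_add, ← LinearMap.comp_apply, ← LinearMap.lTensor_comp, e1, LinearMap.lTensor_comp,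
    LinearMap.comp_apply, hw', e2]
  simp only [LinearMap.lTensor_add, LinearMap.lTensor_comp, LinearMap.add_apply, LinearMap.comp_apply, hz,
    map_zero, add_zero]
  abel

end Poly

/-- Uniform vanishing in all degrees above the number of generators. -/
theorem exists_kills_gens {A : Type u} [CommRing A] [IsNoetherianRing A] (I : Ideal A) (t : ℕ)
    (a : Fin t → A) (hI : I = Ideal.span (Set.range a)) : ∃ c, ∀ n n' : ℕ, ∀ h : n' + c = n,
    ∃ φ : (res I n).complex ⟶ (res I n').complex, Lifts φ (tr I (show n' ≤ n by omega)) ∧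
      ∀ (j : ℕ), t ≤ j → ∀ (M : Type u) [AddCommGroup M] [Module A M], KillsAt M φ j := by
  letI : Algebra (MvPolynomial (Fin t) A) A := (MvPolynomial.aeval a).toRingHom.toAlgebra
  have hs : Function.Surjective (algebraMap (MvPolynomial (Fin t) A) A) := fun x =>
    ⟨MvPolynomial.C x, by
      show MvPolynomial.aeval a (MvPolynomial.C x) = x
      simp⟩
  haveI : Module.Finite (MvPolynomial (Fin t) A) A :=
    Module.Finite.of_surjective (Algebra.linearMap (MvPolynomial (Fin t) A) A) hs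
  have hmap : I = Ideal.map (algebraMap (MvPolynomial (Fin t) A) A) (MvPolynomial.idealOfVars (Fin t) A) := by
    rw [MvPolynomial.idealOfVars, Ideal.map_span, ← Set.range_comp, hI]
    congr 1
    refine congrArg Set.range (funext fun i => ?_)
    show a i = MvPolynomial.aeval a (MvPolynomial.X i)
    simp
  obtain ⟨c, hc⟩ := exists_kills (MvPolynomial.idealOfVars (Fin t) A) I hmap t
    fun M _ _ n => exact_lTensor_pow_idealOfVars t A M n t le_rfl _
  refine ⟨c, fun n n' h => ?_⟩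
  obtain ⟨φ, hφ, hk⟩ := hc n n' h
  refine ⟨φ, hφ, fun j hj => ?_⟩
  induction j, hj using Nat.le_induction with
  | base => exact hk
  | succ j _ ih =>
    intro M _ _
    let π : (M →₀ A) →ₗ[A] M := Finsupp.linearCombination A (id : M → M)
    exact kills_shift (K := LinearMap.ker π) (F := M →₀ A) (N := M) φ (LinearMap.ker π).subtype π Subtype.coe_injective
      (LinearMap.exact_subtype_ker_map π) (Finsupp.linearCombination_id_surjective A M) j (ih _)

end Groth.Agent.GrLib8.TorPro
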