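import Groth.Agent.H9Misc.DRingRightExact
import Groth.Agent.H9Misc.DRingTor

/-!
# Dévissage of derived tensor products along powers of an ideal
-/

universe u

open CategoryTheory CategoryTheory.Limits MonoidalCategory

attribute [local instance] HasDerivedCategory.standard

namespace Groth.Agent.GrLib8.TorPro

open Groth.Agent.H9Misc Groth.Agent.H9Misc.DRingNakayama

variable {A : Type u} [CommRing A]

/-- Right exactness propagates from `A/I` to modules killed by a power of `I`. -/
theorem exactAt_G_pow (I : Ideal A) {P : CochainComplex (ModuleCat.{u} A) ℤ} (hK : DRingLTensor.IsKF P)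
    (hflat : ∀ m, Module.Flat A (P.X m))
    (h : ∀ i, 0 < i → ((G P).obj (ModuleCat.of A (A ⧸ I))).ExactAt i) (n : ℕ) :
    ∀ (N : Type u) [AddCommGroup N] [Module A N], I ^ n • (⊤ : Submodule A N) = ⊥ →
      ∀ i : ℤ, 0 < i → ((G P).obj (ModuleCat.of A N)).ExactAt i := by
  induction n with
  | zero =>
    intro N _ _ hN i hi
    refine DRingRightExact.exactAt_G I hK h (ModuleCat.of A N) (fun f _ x => ?_) i hi
    have hx : x ∈ I ^ 0 • (⊤ : Submodule A N) := by simp
    rw [hN, Submodule.mem_bot] at hx
    rw [hx, smul_zero]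
  | succ n ih =>
    intro N _ _ hN i hi
    let N' : Submodule A N := I • ⊤
    have h1 : I ^ n • (⊤ : Submodule A N') = ⊥ := by
      refine Submodule.map_injective_of_injective N'.subtype_injective ?_
      rw [Submodule.map_smul'', Submodule.map_subtype_top, Submodule.map_bot, ← Submodule.smul_assoc,
        smul_eq_mul, ← pow_succ, hN]
    let S : ShortComplex (ModuleCat.{u} A) := ShortComplex.mk (ModuleCat.ofHom N'.subtype)
      (ModuleCat.ofHom N'.mkQ) (ModuleCat.hom_ext (LinearMap.exact_subtype_mkQ N').linearMap_comp_eq_zero)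
    have hS : S.ShortExact := ShortComplex.ShortExact.mk'
      ((ShortComplex.ShortExact.moduleCat_exact_iff_function_exact _).2 (LinearMap.exact_subtype_mkQ N'))
      ((ModuleCat.mono_iff_injective _).2 N'.subtype_injective)
      ((ModuleCat.epi_iff_surjective _).2 N'.mkQ_surjective)
    have hT := shortExact_map P hflat hS
    rw [HomologicalComplex.exactAt_iff_isZero_homology]
    refine (hT.homology_exact₂ i).isZero_X₂
      (((HomologicalComplex.exactAt_iff_isZero_homology _ i).1 (ih N' h1 i hi)).eq_of_src _ _)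
      (((HomologicalComplex.exactAt_iff_isZero_homology _ i).1
        (DRingRightExact.exactAt_G I hK h (ModuleCat.of A (N ⧸ N')) (fun f hf x => ?_) i hi)).eq_of_tgt _ _)
    obtain ⟨y, rfl⟩ := N'.mkQ_surjective x
    rw [← map_smul]
    exact (Submodule.Quotient.mk_eq_zero _).2 (Submodule.smul_mem_smul hf Submodule.mem_top)

/-- The derived statement. -/
theorem subsingleton_ltensor_of_pow (I : Ideal A)
    [DRing.HasLTensor A (ModuleCat.of A (A ⧸ I))] (K : Dual.D A)
    (hK : ∀ i : ℤ, 0 < i → Subsingleton (Dual.HD A ((DRing.LTensor A (ModuleCat.of A (A ⧸ I))).obj K) i))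
    (N : Type u) [AddCommGroup N] [Module A N] (n : ℕ) (hN : I ^ n • (⊤ : Submodule A N) = ⊥)
    [DRing.HasLTensor A (ModuleCat.of A N)] (i : ℤ) (hi : 0 < i) :
    Subsingleton (Dual.HD A ((DRing.LTensor A (ModuleCat.of A N)).obj K) i) := by
  obtain ⟨P, hP, hflat, ⟨e⟩⟩ := DRingLTensor.exists_rep K
  exact (DRingTor.exactAt_tensC_iff _ hP e i).2
    (exactAt_G_pow I hP hflat (fun j hj => (DRingTor.exactAt_tensC_iff _ hP e j).1 (hK j hj)) n N hN i hi)

end Groth.Agent.GrLib8.TorPro
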