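import Groth.Agent.GrLib8.TorPro.Basic
import Groth.Agent.CAlgOdd.TorSymm.Main
import Groth.Agent.CAlgOdd.FiniteResolution
import Groth.Agent.LC.CohDerived
import Groth.Prelude.Def_Wider

/-!
# Killing `Ext` and killing `Tor`
-/

universe u

open CategoryTheory CategoryTheory.Limits MonoidalCategory TensorProduct

namespace Groth.Agent.GrLib8.TorPro

attribute [local instance] HasDerivedCategory.standard

variable {R : Type u} [CommRing R]

/-- Precomposition in the derived category is precomposition in `Ext`. -/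
theorem precomp_hom {X X' Y : ModuleCat.{u} R} (α : X ⟶ X') {i : ℕ} (x : Abelian.Ext X' Y i) :
    ((Abelian.Ext.mk₀ α).comp x (zero_add i)).hom =
      (DerivedCategory.singleFunctor (ModuleCat.{u} R) 0).map α ≫ x.hom := by
  rw [Abelian.Ext.comp_hom, Abelian.Ext.mk₀_hom, ShiftedHom.mk₀_comp]

theorem forall_precomp_eq_zero_iff {X X' Y : ModuleCat.{u} R} (α : X ⟶ X') (i : ℕ) :
    (∀ φ : (DerivedCategory.singleFunctor (ModuleCat.{u} R) 0).obj X' ⟶
        ((DerivedCategory.singleFunctor (ModuleCat.{u} R) 0).obj Y)⟦(i : ℤ)⟧,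
      (DerivedCategory.singleFunctor (ModuleCat.{u} R) 0).map α ≫ φ = 0) ↔
    ∀ x : Abelian.Ext X' Y i, (Abelian.Ext.mk₀ α).comp x (zero_add i) = 0 := by
  constructor
  · intro h x
    apply (Abelian.Ext.homEquiv).injective
    show ((Abelian.Ext.mk₀ α).comp x (zero_add i)).hom = (0 : Abelian.Ext X Y i).hom
    rw [precomp_hom, Abelian.Ext.zero_hom]
    exact h _
  · intro h φ
    obtain ⟨x, rfl⟩ := (Abelian.Ext.homEquiv (X := X') (Y := Y) (n := i)).surjective φ
    have := congrArg Abelian.Ext.hom (h x)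
    rw [precomp_hom, Abelian.Ext.zero_hom] at this
    exact this

/-- The universal class in degree `i + 1`. -/
noncomputable abbrev univObj {X : ModuleCat.{u} R} (P : ProjectiveResolution X) (i : ℕ) : ModuleCat.{u} R :=
  ModuleCat.of R (P.complex.X (i + 1) ⧸ LinearMap.range (dd P.complex (i + 1)))

/-- The universal cocycle. -/
noncomputable abbrev univMap {X : ModuleCat.{u} R} (P : ProjectiveResolution X) (i : ℕ) :
    P.complex.X (i + 1) ⟶ univObj P i :=
  ModuleCat.ofHom (Submodule.mkQ (LinearMap.range (dd P.complex (i + 1))))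

theorem univMap_cocycle {X : ModuleCat.{u} R} (P : ProjectiveResolution X) (i : ℕ) :
    P.complex.d (i + 2) (i + 1) ≫ univMap P i = 0 :=
  ModuleCat.hom_ext (LinearMap.range_mkQ_comp (dd P.complex (i + 1)))

/-- `Ext` is killed as soon as the universal class is. -/
theorem precomp_eq_zero_of_univ {X X' : ModuleCat.{u} R} (P' : ProjectiveResolution X') (α : X ⟶ X') (i : ℕ)
    (h : (Abelian.Ext.mk₀ α).comp (P'.extMk (univMap P' i) (i + 2) rfl (univMap_cocycle P' i))
      (zero_add (i + 1)) = 0)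
    {Y : ModuleCat.{u} R} (x : Abelian.Ext X' Y (i + 1)) :
    (Abelian.Ext.mk₀ α).comp x (zero_add (i + 1)) = 0 := by
  obtain ⟨f, hf, rfl⟩ := P'.extMk_surjective x (i + 2) rfl
  let g : univObj P' i ⟶ Y := ModuleCat.ofHom (Submodule.liftQ (LinearMap.range (dd P'.complex (i + 1))) f.hom
    (LinearMap.range_le_ker_iff.2 (congrArg ModuleCat.Hom.hom hf)))
  have e : univMap P' i ≫ g = f := ModuleCat.hom_ext (Submodule.liftQ_mkQ _ _ _)
  have e2 : P'.extMk f (i + 2) rfl hf =
      (P'.extMk (univMap P' i) (i + 2) rfl (univMap_cocycle P' i)).comp (Abelian.Ext.mk₀ g) (add_zero _) := by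
    rw [P'.extMk_comp_mk₀]
    congr 1
  rw [e2, ← Abelian.Ext.comp_assoc _ _ _ (zero_add (i + 1)) (add_zero (i + 1)) (by omega), h,
    Abelian.Ext.zero_comp]

/-- Killing `Ext` propagates to higher degrees. -/
theorem precomp_eq_zero_succ {X X' : ModuleCat.{u} R} (α : X ⟶ X') (i : ℕ)
    (h : ∀ (Y : ModuleCat.{u} R) (x : Abelian.Ext X' Y i), (Abelian.Ext.mk₀ α).comp x (zero_add i) = 0)
    {Y : ModuleCat.{u} R} (x : Abelian.Ext X' Y (i + 1)) :
    (Abelian.Ext.mk₀ α).comp x (zero_add (i + 1)) = 0 := by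
  let S : ShortComplex (ModuleCat.{u} R) := ShortComplex.mk (Injective.ι Y) (cokernel.π (Injective.ι Y))
    (cokernel.condition _)
  have hS : S.ShortExact := { exact := ShortComplex.exact_of_g_is_cokernel S (cokernelIsCokernel S.f) }
  haveI : Injective S.X₂ := inferInstanceAs (Injective (Injective.under Y))
  obtain ⟨y, hy⟩ := Abelian.Ext.covariant_sequence_exact₁ (S := S) _ hS x
    (Abelian.Ext.eq_zero_of_injective (x.comp (Abelian.Ext.mk₀ S.f) (add_zero (i + 1)))) rfl
  rw [← hy, ← Abelian.Ext.comp_assoc _ _ _ (zero_add i) rfl (by omega), h, Abelian.Ext.zero_comp]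

theorem precomp_eq_zero_of_le {X X' : ModuleCat.{u} R} (α : X ⟶ X') {e i : ℕ} (hi : e ≤ i)
    (h : ∀ (Y : ModuleCat.{u} R) (x : Abelian.Ext X' Y e), (Abelian.Ext.mk₀ α).comp x (zero_add e) = 0)
    (Y : ModuleCat.{u} R) (x : Abelian.Ext X' Y i) : (Abelian.Ext.mk₀ α).comp x (zero_add i) = 0 := by
  induction i, hi using Nat.le_induction generalizing Y with
  | base => exact h Y x
  | succ i _ ih => exact precomp_eq_zero_succ α i ih x

/-- Above the cohomological dimension the transition maps kill `Ext`. -/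
theorem exists_precomp_eq_zero_of_cdLE [IsNoetherianRing R] (I : Ideal R) (e : ℕ) (he : LocCoh.CdLE R I e)
    (n : ℕ) : ∃ (m : ℕ) (hm : n < m), ∀ (Y : ModuleCat.{u} R) (i : ℕ), e < i →
      ∀ x : Abelian.Ext (LC.qObj I n) Y i, (Abelian.Ext.mk₀ (LC.qMap I hm.le)).comp x (zero_add i) = 0 := by
  let P := ProjectiveResolution.of (LC.qObj I n)
  let x0 := P.extMk (univMap P e) (e + 2) rfl (univMap_cocycle P e)
  obtain ⟨m, h, hm⟩ := (LC.toH_eq_zero_iff I (e + 1) x0).1
    ((he (univObj P e) (e + 1) (Nat.lt_succ_self e)).elim _ _)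
  refine ⟨m + 1, by omega, fun Y i hi x => ?_⟩
  refine precomp_eq_zero_of_le _ (Nat.succ_le_of_lt hi) (fun Y x => ?_) Y x
  refine precomp_eq_zero_of_univ P _ e ?_ x
  have e1 : LC.qMap I (show n ≤ m + 1 by omega) = LC.qMap I (Nat.le_succ m) ≫ LC.qMap I h := by
    apply ModuleCat.hom_ext
    exact Submodule.linearMap_qext _ rfl
  rw [e1, ← Abelian.Ext.mk₀_comp_mk₀, Abelian.Ext.comp_assoc _ _ _ (zero_add 0) (zero_add (e + 1)) (by omega),
    ← LC.res_apply I h, hm, Abelian.Ext.comp_zero]

section Criterion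

variable {X X' : ModuleCat.{u} R} {P : ProjectiveResolution X} {P' : ProjectiveResolution X'}

/-- The cochain criterion for killing `Ext^{e+1}`. -/
theorem forall_ext_precomp_iff (α : X ⟶ X') (φ : ProjectiveResolution.Hom P P' α) (e : ℕ) :
    (∀ (Y : ModuleCat.{u} R) (x : Abelian.Ext X' Y (e + 1)), (Abelian.Ext.mk₀ α).comp x (zero_add (e + 1)) = 0) ↔
      ∃ g : P.complex.X e ⟶ univObj P' e, P.complex.d (e + 1) e ≫ g = φ.hom.f (e + 1) ≫ univMap P' e := by
  have key : (Abelian.Ext.mk₀ α).comp (P'.extMk (univMap P' e) (e + 2) rfl (univMap_cocycle P' e))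
      (zero_add (e + 1)) = 0 ↔
      ∃ g : P.complex.X e ⟶ univObj P' e, P.complex.d (e + 1) e ≫ g = φ.hom.f (e + 1) ≫ univMap P' e := by
    rw [ProjectiveResolution.mk₀_comp_extMk _ _ rfl _ φ, P.extMk_eq_zero_iff _ (e + 2) rfl _ e rfl]
  exact ⟨fun h => key.1 (h _ _), fun h Y x => precomp_eq_zero_of_univ P' α e (key.2 h) x⟩

/-- A null-homotopy of the universal class kills `Tor`. -/
theorem kills_of_cochain (φ : P.complex ⟶ P'.complex) (e : ℕ) (g : P.complex.X e ⟶ univObj P' e)
    (hg : P.complex.d (e + 1) e ≫ g = φ.f (e + 1) ≫ univMap P' e)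
    (N : Type u) [AddCommGroup N] [Module R N] : KillsAt N φ e := by
  intro z hz
  have hg' : g.hom ∘ₗ dd P.complex e = (LinearMap.range (dd P'.complex (e + 1))).mkQ ∘ₗ (φ.f (e + 1)).hom :=
    congrArg ModuleCat.Hom.hom hg
  refine ((lTensor_exact N (LinearMap.exact_map_mkQ_range (dd P'.complex (e + 1)))
    (Submodule.mkQ_surjective _)) _).1 ?_
  rw [← LinearMap.comp_apply, ← LinearMap.lTensor_comp, ← hg', LinearMap.lTensor_comp, LinearMap.comp_apply, hz,
    map_zero]

/-- A map which is killed by all tensor products extends. -/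
theorem exists_extension [IsNoetherianRing R] {Z Q N' : Type u} [AddCommGroup Z] [Module R Z] [AddCommGroup Q] [Module R Q]
    [AddCommGroup N'] [Module R N'] [Module.Free R Q] [Module.Finite R Q] (d : Z →ₗ[R] Q) (h : Z →ₗ[R] N')
    (H : ∀ (N : Type u) [AddCommGroup N] [Module R N] (z : N ⊗[R] Z), d.lTensor N z = 0 → h.lTensor N z = 0) :
    ∃ g : Q →ₗ[R] N', g ∘ₗ d = h := by
  classical
  let ι := Module.Free.ChooseBasisIndex R Q
  let b := Module.Free.chooseBasis R Q
  obtain ⟨a, w, hw⟩ := Submodule.fg_iff_exists_fin_generating_family.1 (IsNoetherian.noetherian (LinearMap.range d))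
  have hw' : ∀ k, ∃ z, d z = w k := fun k => by
    have : w k ∈ LinearMap.range d := hw ▸ Submodule.subset_span ⟨k, rfl⟩
    exact this
  choose z hz using hw'
  -- the transposed matrix
  let A : (ι → R) →ₗ[R] (Fin a → R) :=
    LinearMap.pi fun k => ∑ l, b.repr (w k) l • LinearMap.proj l
  let N := (Fin a → R) ⧸ LinearMap.range A
  let c : Fin a → N := fun k => Submodule.Quotient.mk (Pi.single k 1)
  have h0 : d.lTensor N (∑ k, c k ⊗ₜ[R] z k) = 0 := by
    calc d.lTensor N (∑ k, c k ⊗ₜ[R] z k)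
        = ∑ k, ∑ l, (b.repr (w k) l • c k) ⊗ₜ[R] b l := by
          simp only [map_sum, LinearMap.lTensor_tmul, hz]
          refine Finset.sum_congr rfl fun k _ => ?_
          conv_lhs => rw [← b.sum_repr (w k)]
          simp only [TensorProduct.tmul_sum, TensorProduct.tmul_smul, TensorProduct.smul_tmul']
      _ = ∑ l, (∑ k, b.repr (w k) l • c k) ⊗ₜ[R] b l := by
          rw [Finset.sum_comm]
          simp only [TensorProduct.sum_tmul]
      _ = 0 := Finset.sum_eq_zero fun l _ => by
          have hA : A (Pi.single l 1) = ∑ k, b.repr (w k) l • (Pi.single k (1 : R) : Fin a → R) := by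
            funext k
            simp [A, Finset.sum_apply, Pi.single_apply]
          have : ∑ k, b.repr (w k) l • c k = (LinearMap.range A).mkQ (A (Pi.single l 1)) := by
            rw [hA, map_sum]
            rfl
          rw [this, Submodule.mkQ_apply, (Submodule.Quotient.mk_eq_zero _).2 (LinearMap.mem_range_self A _), TensorProduct.zero_tmul]
  have h1 := H N _ h0
  -- identify `N ⊗ N'` with the cokernel of the transposed matrix
  let B : (ι → N') →ₗ[R] (Fin a → N') :=
    LinearMap.pi fun k => ∑ l, b.repr (w k) l • LinearMap.proj l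
  let μ : (Fin a → R) →ₗ[R] N' →ₗ[R] ((Fin a → N') ⧸ LinearMap.range B) :=
    LinearMap.mk₂ R (fun v y => Submodule.Quotient.mk (fun k => v k • y))
      (fun v v' y => by rw [← Submodule.Quotient.mk_add]; congr 1; funext k; exact add_smul _ _ _)
      (fun r v y => by rw [← Submodule.Quotient.mk_smul]; congr 1; funext k; exact mul_smul _ _ _)
      (fun v y y' => by rw [← Submodule.Quotient.mk_add]; congr 1; funext k; exact smul_add _ _ _)
      (fun r v y => by rw [← Submodule.Quotient.mk_smul]; congr 1; funext k; exact smul_comm _ _ _)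
  have hμ : LinearMap.range A ≤ LinearMap.ker μ := by
    rintro - ⟨v, rfl⟩
    refine LinearMap.mem_ker.2 (LinearMap.ext fun y => (Submodule.Quotient.mk_eq_zero _).2 ⟨fun l => v l • y, ?_⟩)
    funext k
    simp [A, B, Finset.sum_apply, Finset.sum_smul, mul_smul]
  let ν : N ⊗[R] N' →ₗ[R] ((Fin a → N') ⧸ LinearMap.range B) :=
    TensorProduct.lift (Submodule.liftQ _ μ hμ)
  have h2 : (fun k => h (z k)) ∈ LinearMap.range B := by
    rw [← Submodule.Quotient.mk_eq_zero]
    have h3 := congrArg ν h1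
    rw [map_zero] at h3
    refine Eq.trans ?_ h3
    have h4 : ∀ k, ν (c k ⊗ₜ[R] h (z k)) = (LinearMap.range B).mkQ (Pi.single k (h (z k))) := fun k => by
      show (LinearMap.range B).mkQ (fun j => (Pi.single k (1 : R) : Fin a → R) j • h (z k)) = _
      congr 1
      funext j
      rcases eq_or_ne j k with rfl | hjk
      · simp
      · simp [hjk]
    simp only [map_sum, LinearMap.lTensor_tmul, h4]
    rw [← map_sum, Finset.univ_sum_single]
    rfl
  obtain ⟨y, hy⟩ := h2
  refine ⟨b.constr R y, ?_⟩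
  have hg : ∀ k, b.constr R y (w k) = h (z k) := fun k => by
    rw [Module.Basis.constr_apply_fintype]
    have := congrFun hy k
    simpa [B, Finset.sum_apply, Module.Basis.equivFun_apply] using this
  have hker : LinearMap.ker d ≤ LinearMap.ker h := fun x hx => by
    have := H R ((1 : R) ⊗ₜ x) (by rw [LinearMap.lTensor_tmul, LinearMap.mem_ker.1 hx, TensorProduct.tmul_zero])
    rw [LinearMap.lTensor_tmul] at this
    simpa using congrArg (TensorProduct.lid R N') this
  ext x
  have hx : d x ∈ Submodule.span R (Set.range w) := hw ▸ LinearMap.mem_range_self d x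
  obtain ⟨r, hr⟩ := (Submodule.mem_span_range_iff_exists_fun R).1 hx
  have hx' : x - ∑ k, r k • z k ∈ LinearMap.ker d := by
    simp [LinearMap.mem_ker, hz, hr]
  have h4 := hker hx'
  rw [LinearMap.mem_ker, map_sub, sub_eq_zero] at h4
  rw [LinearMap.comp_apply, h4, ← hr]
  simp [map_sum, hg]

theorem exists_cochain_of_kills [IsNoetherianRing R] (φ : P.complex ⟶ P'.complex) (e : ℕ)
    [Module.Free R (P.complex.X e)] [Module.Finite R (P.complex.X e)]
    (h : ∀ (N : Type u) [AddCommGroup N] [Module R N], KillsAt N φ e) :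
    ∃ g : P.complex.X e ⟶ univObj P' e, P.complex.d (e + 1) e ≫ g = φ.f (e + 1) ≫ univMap P' e := by
  obtain ⟨g, hg⟩ := exists_extension (dd P.complex e)
    ((LinearMap.range (dd P'.complex (e + 1))).mkQ ∘ₗ (φ.f (e + 1)).hom) fun N _ _ z hz => by
      obtain ⟨u, hu⟩ := h N z hz
      rw [LinearMap.lTensor_comp, LinearMap.comp_apply, ← hu, ← LinearMap.comp_apply, ← LinearMap.lTensor_comp,
        LinearMap.range_mkQ_comp, LinearMap.lTensor_zero, LinearMap.zero_apply]
  exact ⟨ModuleCat.ofHom g, ModuleCat.hom_ext hg⟩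

end Criterion

/-- The converse criterion for a map on `Tor` to vanish. -/
theorem kills_of_tor_map_eq_zero {Y Z : ModuleCat.{u} R} (f : Y ⟶ Z) (P : ProjectiveResolution Y)
    (Q : ProjectiveResolution Z) (φ : P.complex ⟶ Q.complex) (hφ : Lifts φ f)
    (M : Type u) [AddCommGroup M] [Module R M] (j : ℕ)
    (h : ((Tor (ModuleCat.{u} R) (j + 1)).obj (ModuleCat.of R M)).map f = 0) : KillsAt M φ j := by
  let G : ModuleCat.{u} R ⥤ ModuleCat.{u} R := (tensoringLeft (ModuleCat.{u} R)).obj (ModuleCat.of R M)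
  let C := (G.mapHomologicalComplex (ComplexShape.down ℕ)).obj P.complex
  let C' := (G.mapHomologicalComplex (ComplexShape.down ℕ)).obj Q.complex
  let ψ : C ⟶ C' := (G.mapHomologicalComplex (ComplexShape.down ℕ)).map φ
  have e := ProjectiveResolution.isoLeftDerivedObj_hom_naturality f P Q φ hφ G (j + 1)
  have hz' : HomologicalComplex.homologyMap ψ (j + 1) = 0 := by
    refine (cancel_epi (P.isoLeftDerivedObj G (j + 1)).hom).1 ?_
    refine e.symm.trans ((congrArg (· ≫ _) h).trans (zero_comp.trans comp_zero.symm))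
  intro z hz
  let y : C.cycles (j + 1) := (C.liftCycles (ModuleCat.ofHom (LinearMap.toSpanSingleton R _ z) :
      ModuleCat.of R R ⟶ C.X (j + 1)) j (by simp)
    (ModuleCat.hom_ext (LinearMap.ext fun r => by
      show dd C j (r • z) = 0
      exact (map_smul _ r z).trans ((congrArg (r • ·) hz).trans (smul_zero r))))).hom 1
  have hy : (C.iCycles (j + 1)).hom y = z :=
    (congrArg (fun f : ModuleCat.of R R ⟶ C.X (j + 1) => f.hom 1) (C.liftCycles_i _ j (by simp) _)).trans
      (one_smul R z)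
  have hS : (ShortComplex.mk (C'.toCycles (j + 2) (j + 1)) (C'.homologyπ (j + 1))
      (C'.toCycles_comp_homologyπ (j + 2) (j + 1))).Exact :=
    ShortComplex.exact_of_g_is_cokernel _ (C'.homologyIsCokernel (j + 2) (j + 1) (by simp))
  have h0 : (C'.homologyπ (j + 1)).hom ((HomologicalComplex.cyclesMap ψ (j + 1)).hom y) = 0 := by
    refine (congrArg (fun f : C.cycles (j + 1) ⟶ C'.homology (j + 1) => f.hom y)
      (HomologicalComplex.homologyπ_naturality ψ (j + 1))).symm.trans ?_
    rw [hz', comp_zero]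
    rfl
  obtain ⟨u, hu⟩ := ((ShortComplex.ShortExact.moduleCat_exact_iff_function_exact _).1 hS _).1 h0
  refine ⟨u, ?_⟩
  refine Eq.trans (congrArg (fun f : C'.X (j + 2) ⟶ C'.X (j + 1) => f.hom u) (C'.toCycles_i (j + 2) (j + 1))).symm ?_
  refine (congrArg (C'.iCycles (j + 1)).hom hu).trans ?_
  refine (congrArg (fun f : C.cycles (j + 1) ⟶ C'.X (j + 1) => f.hom y) (HomologicalComplex.cyclesMap_i ψ (j + 1))).trans ?_
  exact congrArg (ψ.f (j + 1)).hom hy

/-- Killing `Ext^{e+1}` is killing `Tor_{e+1}` for finite modules over a noetherian ring. -/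
theorem precomp_iff_tor [IsNoetherianRing R] (M M' : Type u) [AddCommGroup M] [Module R M] [Module.Finite R M]
    [AddCommGroup M'] [Module R M'] (α : M →ₗ[R] M') (e : ℕ) :
    (∀ (Y : ModuleCat.{u} R) (x : Abelian.Ext (ModuleCat.of R M') Y (e + 1)),
        (Abelian.Ext.mk₀ (ModuleCat.ofHom α : ModuleCat.of R M ⟶ ModuleCat.of R M')).comp x (zero_add (e + 1)) = 0) ↔
      ∀ (N : Type u) [AddCommGroup N] [Module R N],
        ((CategoryTheory.Tor (ModuleCat.{u} R) (e + 1)).map (ModuleCat.ofHom α)).app (ModuleCat.of R N) = 0 := by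
  obtain ⟨P, hP⟩ := CAlgOdd.FiniteResolution.exists_projectiveResolution R M
  let P' := ProjectiveResolution.of (ModuleCat.of R M')
  let f : ModuleCat.of R M ⟶ ModuleCat.of R M' := ModuleCat.ofHom α
  obtain ⟨ψ, hψ⟩ := exists_lifts P P' f
  let φ : ProjectiveResolution.Hom P P' f := ⟨ψ, by
    refine hψ.trans ?_
    congr 1⟩
  haveI := (hP e).1
  haveI := (hP e).2
  obtain ⟨T⟩ := CAlgOdd.TorSymm.nonempty_flip (R := R) (e + 1)
  rw [forall_ext_precomp_iff f φ e]
  constructor
  · rintro ⟨g, hg⟩ N _ _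
    have hz := tor_map_eq_zero f P P' ψ hψ N e (kills_of_cochain ψ e g hg N)
    have nat := congrArg (fun τ : (Tor (ModuleCat.{u} R) (e + 1)).obj (ModuleCat.of R M) ⟶
      (Tor (ModuleCat.{u} R) (e + 1)).flip.obj (ModuleCat.of R M') => τ.app (ModuleCat.of R N)) (T.hom.naturality f)
    simp only [NatTrans.comp_app] at nat
    refine (cancel_mono ((T.app (ModuleCat.of R M')).app (ModuleCat.of R N)).hom).1 ?_
    exact nat.trans ((congrArg _ hz).trans (comp_zero.trans zero_comp.symm))
  · intro h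
    refine exists_cochain_of_kills ψ e fun N _ _ => kills_of_tor_map_eq_zero f P P' ψ hψ N e ?_
    have nat := congrArg (fun τ : (Tor (ModuleCat.{u} R) (e + 1)).obj (ModuleCat.of R M) ⟶
      (Tor (ModuleCat.{u} R) (e + 1)).flip.obj (ModuleCat.of R M') => τ.app (ModuleCat.of R N)) (T.hom.naturality f)
    simp only [NatTrans.comp_app] at nat
    refine (cancel_epi ((T.app (ModuleCat.of R M)).app (ModuleCat.of R N)).hom).1 ?_
    exact nat.symm.trans ((congrArg (· ≫ _) (h N)).trans (zero_comp.trans comp_zero.symm))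

end Groth.Agent.GrLib8.TorPro
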